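import Cfsg.Agent.H539.Lim.Defs
import Cfsg.Agent.H539.Lim.DefsZ
import Cfsg.Agent.H16.Lim.Red
import Cfsg.Agent.H309.Lim.Norm
import Mathlib
set_option linter.all false

-- part: H118/Lim/Local
section
/-!
# Localization for coefficient systems (S5242, piece F3; helper118)

`Coef.van_of_local` (plan `tools/plans/S5242.md`, A5 for `Coef`).
-/

set_option autoImplicit false

namespace Cfsg.Agent.H118.Lim

open MulAction Cfsg.Agent.H539.Lim

universe u v w

section Basic

variable {G : Type u} [Group G] {Ω : Type v} [MulAction G Ω]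

theorem mem_Nz {Y : Subgroup G} {g : G} : g ∈ Nz Y ↔ cj g Y = Y := Subgroup.mem_normalizer_iff_map_conj_eq

theorem cj_cj (g h : G) (P : Subgroup G) : cj g (cj h P) = cj (g * h) P := by
  unfold cj
  rw [Subgroup.map_map]
  congr 1
  ext x
  simp [mul_assoc]

theorem cj_one (P : Subgroup G) : cj 1 P = P := by
  ext x
  simp [cj]

theorem cj_inv_cj (g : G) (P : Subgroup G) : cj g⁻¹ (cj g P) = P := by
  rw [cj_cj, inv_mul_cancel, cj_one]

theorem cj_mem_iff {V : Set (Subgroup G)} (hVi : IsInv V) (g : G) (P : Subgroup G) : cj g P ∈ V ↔ P ∈ V :=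
  ⟨fun h => by rw [← cj_inv_cj g P]; exact hVi g⁻¹ _ h, fun h => hVi g P h⟩

theorem st_smul {k : ℕ} (g : G) (x : Fin k → Ω) : st G (g • x) = cj g (st G x) :=
  stabilizer_smul_eq_stabilizer_map_conj g x

theorem cj_of_mem {g : G} {P : Subgroup G} (hg : g ∈ P) : cj g P = P :=
  mem_Nz.1 (Subgroup.le_normalizer hg)

/-- `X P` is normalized by `P` -/
theorem le_Nz {V : Set (Subgroup G)} {X : Subgroup G → Subgroup G}
    (h2 : ∀ (g : G), ∀ P ∈ V, X (cj g P) = cj g (X P)) {P : Subgroup G} (hP : P ∈ V) : P ≤ Nz (X P) := by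
  intro g hg
  rw [mem_Nz, ← h2 g P hP, cj_of_mem hg]

theorem map_st (Y : Subgroup G) {k : ℕ} (y : Fin k → FixPt Y Ω) :
    (st ↥(Nz Y) y).map (Nz Y).subtype = Nz Y ⊓ st G (fun i => (y i).1) := by
  ext g
  constructor
  · rintro ⟨n, hn, rfl⟩
    refine ⟨n.2, ?_⟩
    change (n : G) ∈ st G (fun i => (y i).1)
    rw [mem_stabilizer_iff]
    funext i
    have h1 := congrFun (mem_stabilizer_iff.1 hn) i
    exact congrArg Subtype.val h1
  · rintro ⟨h1, h2⟩
    refine ⟨⟨g, h1⟩, ?_, rfl⟩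
    change _ ∈ st ↥(Nz Y) y
    rw [mem_stabilizer_iff]
    funext i
    apply Subtype.ext
    exact congrFun (mem_stabilizer_iff.1 h2) i

theorem map_st_le (Y : Subgroup G) {k : ℕ} (y : Fin k → FixPt Y Ω) :
    (st ↥(Nz Y) y).map (Nz Y).subtype ≤ st G (fun i => (y i).1) := by
  rw [map_st]
  exact inf_le_right

/-- the stabilizer of a nonempty tuple is a `p`-group -/
theorem isPGroup_st {p : ℕ} (hΩ : PSet p G Ω) {k : ℕ} (x : Fin (k + 1) → Ω) : IsPGroup p (st G x) :=
  (hΩ.pgroup (x 0)).to_le fun g hg => by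
    rw [mem_stabilizer_iff] at hg ⊢
    exact congrFun hg 0

/-- (i) of A5 -/
theorem st_eq {p : ℕ} [Fact p.Prime] [Finite G] (hΩ : PSet p G Ω) {V : Set (Subgroup G)}
    {X : Subgroup G → Subgroup G} (h2 : ∀ (g : G), ∀ P ∈ V, X (cj g P) = cj g (X P)) {Y : Subgroup G} {k : ℕ}
    (y : Fin (k + 1) → FixPt Y Ω) (hV : (st ↥(Nz Y) y).map (Nz Y).subtype ∈ V)
    (hX : X ((st ↥(Nz Y) y).map (Nz Y).subtype) = Y) :
    st G (fun i => (y i).1) = (st ↥(Nz Y) y).map (Nz Y).subtype := by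
  set P := (st ↥(Nz Y) y).map (Nz Y).subtype with hP
  set S := st G (fun i => (y i).1) with hS
  have hPS : P = Nz Y ⊓ S := map_st Y y
  have hle : P ≤ S := map_st_le Y y
  have hSp : IsPGroup p S := isPGroup_st hΩ _
  have : Group.IsNilpotent S := hSp.isNilpotent
  have hnc := normalizerCondition_iff_only_full_group_self_normalizing.1 (Group.normalizerCondition_of_isNilpotent (G := S))
    (P.subgroupOf S) (by
      apply le_antisymm _ Subgroup.le_normalizer
      intro g hg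
      rw [Subgroup.mem_normalizer_iff_map_conj_eq] at hg
      rw [Subgroup.mem_subgroupOf, hPS]
      refine ⟨?_, g.2⟩
      have h4 : cj (g : G) P = P := by
        have h5 : (P.subgroupOf S).map S.subtype = P := by
          rw [Subgroup.map_subgroupOf_eq_of_le hle]
        conv_lhs => rw [← h5]
        conv_rhs => rw [← h5, ← hg]
        unfold cj
        rw [Subgroup.map_map, Subgroup.map_map]
        congr 1
      refine mem_Nz.2 ?_
      conv_lhs => rw [← hX, ← h2 _ _ hV, h4, hX])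
  rw [Subgroup.subgroupOf_eq_top] at hnc
  exact le_antisymm hnc hle

end Basic

section Coef

variable {G : Type u} [Group G] {Ω : Type v} [MulAction G Ω] (C : Coef.{u, w} G)

theorem tau_congr {k : ℕ} {P : Subgroup G} {g g' : G} (hg : g = g') {x x' : Fin k → Ω} (hx : x = x')
    (β : ∀ x : Fin k → Ω, C.M (st G x)) (h : ∀ u ∈ P, g * u * g⁻¹ ∈ st G x)
    (h' : ∀ u ∈ P, g' * u * g'⁻¹ ∈ st G x') : C.τ g P (st G x) h (β x) = C.τ g' P (st G x') h' (β x') := by
  subst hg
  subst hx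
  rfl

theorem res_res {P Q R : Subgroup G} (h : P ≤ Q) (h' : Q ≤ R) (m : C.M R) :
    C.res h (C.res h' m) = C.res (h.trans h') m := by
  unfold Coef.res
  rw [C.τ_comp _ _ _ _ _ _ _ (fun u hu => by simpa using h' (h hu))]
  congr 1
  simp

theorem res_self {P : Subgroup G} (h : P ≤ P) (m : C.M P) : C.res h m = m :=
  C.τ_inner P 1 P.one_mem _ m

/-- transport of a family by `g` -/
def pull (g : G) {k : ℕ} (β : ∀ x : Fin k → Ω, C.M (st G x)) (x : Fin k → Ω) : C.M (st G x) :=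
  C.τ g (st G x) (st G (g • x)) (Coef.conj_st G g x) (β (g • x))

theorem pull_pull (g h : G) {k : ℕ} (β : ∀ x : Fin k → Ω, C.M (st G x)) :
    pull C g (pull C h β) = pull C (h * g) β := by
  funext x
  unfold pull
  rw [C.τ_comp g h _ _ _ _ _ (fun u hu => by
    rw [smul_smul]
    exact Coef.conj_st G (h * g) x u hu)]
  exact tau_congr C rfl (smul_smul h g x) β _ _

theorem dd_pull (g : G) {k : ℕ} (β : ∀ x : Fin k → Ω, C.M (st G x)) (x : Fin (k + 1) → Ω) :
    C.dd (pull C g β) x = pull C g (C.dd β) x := by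
  unfold Coef.dd pull
  rw [map_sum]
  refine Finset.sum_congr rfl fun i _ => ?_
  rw [map_zsmul]
  congr 1
  unfold Coef.res
  have hle : ∀ u ∈ st G x, (g * 1) * u * (g * 1)⁻¹ ∈ st G (g • fun j => x (i.succAbove j)) := fun u hu => by
    rw [mul_one]
    exact Coef.conj_st G g _ u (Coef.st_succAbove_le G x i hu)
  have hle' : ∀ u ∈ st G x, (1 * g) * u * (1 * g)⁻¹ ∈ st G (fun j => (g • x) (i.succAbove j)) := fun u hu => by
    rw [one_mul]
    exact Coef.conj_st G g _ u (Coef.st_succAbove_le G x i hu)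
  rw [C.τ_comp _ _ _ _ _ _ _ hle, C.τ_comp _ _ _ _ _ _ _ hle']
  exact tau_congr C (by rw [mul_one, one_mul]) rfl β _ _

theorem tau_congr' {ι : Type*} {g g' : G} (hg : g = g') {P : Subgroup G} (S : ι → Subgroup G)
    (β : ∀ i, C.M (S i)) {i i' : ι} (hi : i = i') (h : ∀ u ∈ P, g * u * g⁻¹ ∈ S i)
    (h' : ∀ u ∈ P, g' * u * g'⁻¹ ∈ S i') : C.τ g P (S i) h (β i) = C.τ g' P (S i') h' (β i') := by
  subst hg
  subst hi
  rfl

end Coef

section Main

variable {G : Type u} [Group G] {Ω : Type v} [MulAction G Ω] (C : Coef.{u, w} G)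

/-- the local collection -/
def W (V : Set (Subgroup G)) (X : Subgroup G → Subgroup G) (Y : Subgroup G) : Set (Subgroup ↥(Nz Y)) :=
  {Q | Q.map (Nz Y).subtype ∈ V ∧ X (Q.map (Nz Y).subtype) = Y}

/-- the tuple of fixed points -/
def lift {Y : Subgroup G} {k : ℕ} (x : Fin k → Ω) (h : Y ≤ st G x) : Fin k → FixPt Y Ω := fun i =>
  ⟨x i, fun g hg => by
    have h1 := mem_stabilizer_iff.1 (h hg)
    rw [mem_stabilizer_iff]
    exact congrFun h1 i⟩

theorem st_le_map {Y : Subgroup G} {k : ℕ} (x : Fin k → Ω) (h : Y ≤ st G x) (hN : st G x ≤ Nz Y) :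
    st G x ≤ (st ↥(Nz Y) (lift x h)).map (Nz Y).subtype := by
  rw [map_st]
  exact le_inf hN le_rfl

theorem map_cj {Y : Subgroup G} (n : ↥(Nz Y)) (Q : Subgroup ↥(Nz Y)) :
    (cj n Q).map (Nz Y).subtype = cj (n : G) (Q.map (Nz Y).subtype) := by
  unfold cj
  rw [Subgroup.map_map, Subgroup.map_map]
  congr 1

section

variable {V : Set (Subgroup G)} {X : Subgroup G → Subgroup G} {Y : Subgroup G}

theorem cj_mem_W (hVi : IsInv V) (h2 : ∀ (g : G), ∀ P ∈ V, X (cj g P) = cj g (X P)) : IsInv (W V X Y) := by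
  rintro n Q ⟨hQ1, hQ2⟩
  refine ⟨?_, ?_⟩
  · rw [map_cj]
    exact hVi _ _ hQ1
  · rw [map_cj, h2 _ _ hQ1, hQ2]
    exact mem_Nz.1 n.2

theorem good_smul (hVi : IsInv V) (h2 : ∀ (g : G), ∀ P ∈ V, X (cj g P) = cj g (X P)) {k : ℕ} {x : Fin k → Ω}
    {g : G} (hg : g ∈ Nz Y) (h : st G x ∈ V ∧ X (st G x) = Y) : st G (g • x) ∈ V ∧ X (st G (g • x)) = Y := by
  rw [st_smul]
  refine ⟨hVi _ _ h.1, ?_⟩
  rw [h2 _ _ h.1, h.2]
  exact mem_Nz.1 hg

theorem mem_W_of_good (h2 : ∀ (g : G), ∀ P ∈ V, X (cj g P) = cj g (X P)) {k : ℕ} (y : Fin k → FixPt Y Ω)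
    (h : st G (fun i => (y i).1) ∈ V ∧ X (st G (fun i => (y i).1)) = Y) : st ↥(Nz Y) y ∈ W V X Y := by
  have h1 : st G (fun i => (y i).1) ≤ Nz Y := by
    have := le_Nz h2 h.1
    rwa [h.2] at this
  have h3 : (st ↥(Nz Y) y).map (Nz Y).subtype = st G (fun i => (y i).1) := by
    rw [map_st, inf_eq_right.2 h1]
  refine ⟨?_, ?_⟩
  · rw [h3]; exact h.1
  · rw [h3]; exact h.2

theorem good_of_mem_W {p : ℕ} [Fact p.Prime] [Finite G] (hΩ : PSet p G Ω)
    (h2 : ∀ (g : G), ∀ P ∈ V, X (cj g P) = cj g (X P)) {k : ℕ} (y : Fin (k + 1) → FixPt Y Ω)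
    (h : st ↥(Nz Y) y ∈ W V X Y) : st G (fun i => (y i).1) ∈ V ∧ X (st G (fun i => (y i).1)) = Y := by
  rw [st_eq hΩ h2 y h.1 h.2]
  exact h

open Classical in
/-- the local cochain -/
noncomputable def loc (V : Set (Subgroup G)) (X : Subgroup G → Subgroup G) (Y : Subgroup G) {k : ℕ}
    (c : ∀ x : Fin k → Ω, C.M (st G x)) (y : Fin k → FixPt Y Ω) : C.M ((st ↥(Nz Y) y).map (Nz Y).subtype) :=
  if st ↥(Nz Y) y ∈ W V X Y then C.res (map_st_le Y y) (c (fun i => (y i).1)) else 0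

theorem loc_coch (hVi : IsInv V) (h2 : ∀ (g : G), ∀ P ∈ V, X (cj g P) = cj g (X P)) {k : ℕ}
    {c : ∀ x : Fin k → Ω, C.M (st G x)} (hc : C.IsCoch V c) :
    (C.restr (Nz Y)).IsCoch (W V X Y) (loc C V X Y c) := by
  classical
  refine ⟨fun n y => ?_, fun y hy => if_neg hy⟩
  change C.τ (n : G) _ _ _ (loc C V X Y c (n • y)) = loc C V X Y c y
  by_cases h : st ↥(Nz Y) y ∈ W V X Y
  · have h' : st ↥(Nz Y) (n • y) ∈ W V X Y := by
      rw [st_smul]
      exact cj_mem_W hVi h2 _ _ h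
    unfold loc
    rw [if_pos h, if_pos h']
    unfold Coef.res
    rw [← hc.equiv (n : G) (fun i => (y i).1)]
    have hle : ∀ u ∈ (st ↥(Nz Y) y).map (Nz Y).subtype, (1 * (n : G)) * u * (1 * (n : G))⁻¹ ∈
        st G (fun i => ((n • y) i).1) := fun u hu => by
      rw [one_mul]
      exact Coef.conj_st G (n : G) _ u (map_st_le Y y hu)
    have hle' : ∀ u ∈ (st ↥(Nz Y) y).map (Nz Y).subtype, ((n : G) * 1) * u * ((n : G) * 1)⁻¹ ∈
        st G ((n : G) • fun i => (y i).1) := fun u hu => by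
      rw [mul_one]
      exact Coef.conj_st G (n : G) _ u (map_st_le Y y hu)
    rw [C.τ_comp _ _ _ _ _ _ _ hle, C.τ_comp _ _ _ _ _ _ _ hle']
    exact tau_congr C (by rw [mul_one, one_mul]) rfl c _ _
  · have h' : st ↥(Nz Y) (n • y) ∉ W V X Y := by
      rw [st_smul, cj_mem_iff (cj_mem_W hVi h2)]
      exact h
    unfold loc
    rw [if_neg h, if_neg h', map_zero]

theorem loc_dd {p : ℕ} [Fact p.Prime] [Finite G] (hΩ : PSet p G Ω)
    (h2 : ∀ (g : G), ∀ P ∈ V, X (cj g P) = cj g (X P)) (h3 : ∀ P ∈ V, ∀ Q ∈ V, P ≤ Q → X P = X Q) {k : ℕ}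
    {c : ∀ x : Fin k → Ω, C.M (st G x)} (hc : C.IsCoch V c) (y : Fin (k + 1) → FixPt Y Ω)
    (hy : st ↥(Nz Y) y ∈ W V X Y) :
    (C.restr (Nz Y)).dd (loc C V X Y c) y = C.res (map_st_le Y y) (C.dd c (fun i => (y i).1)) := by
  classical
  obtain ⟨hg1, hg2⟩ := good_of_mem_W hΩ h2 y hy
  unfold Coef.dd
  rw [map_sum]
  refine Finset.sum_congr rfl fun i _ => ?_
  rw [map_zsmul]
  congr 1
  rw [res_res]
  have hle : (st ↥(Nz Y) y).map (Nz Y).subtype ≤ (st ↥(Nz Y) (fun j => y (i.succAbove j))).map (Nz Y).subtype :=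
    Subgroup.map_mono (Coef.st_succAbove_le ↥(Nz Y) y i)
  change C.res hle (loc C V X Y c (fun j => y (i.succAbove j))) = _
  unfold loc
  by_cases h : st ↥(Nz Y) (fun j => y (i.succAbove j)) ∈ W V X Y
  · rw [if_pos h, res_res]
  · rw [if_neg h, map_zero]
    have h0 : st G (fun j => (y (i.succAbove j)).1) ∉ V := by
      intro hV
      exact h (mem_W_of_good h2 _ ⟨hV, (h3 _ hg1 _ hV (Coef.st_succAbove_le G (fun i => (y i).1) i)).symm.trans hg2⟩)
    rw [hc.supp _ h0, map_zero]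

theorem restr_dd {k : ℕ} (b : ∀ y : Fin k → FixPt Y Ω, C.M ((st ↥(Nz Y) y).map (Nz Y).subtype))
    (y : Fin (k + 1) → FixPt Y Ω) : ((C.restr (Nz Y)).dd b y : C.M ((st ↥(Nz Y) y).map (Nz Y).subtype)) =
      ∑ i : Fin (k + 1), ((-1 : ℤ) ^ (i : ℕ)) •
        C.res (Subgroup.map_mono (Coef.st_succAbove_le ↥(Nz Y) y i)) (b (fun j => y (i.succAbove j))) := rfl

open Classical in
/-- the global family of a local cochain -/
noncomputable def glob (V : Set (Subgroup G)) (X : Subgroup G → Subgroup G) (Y : Subgroup G) {k : ℕ}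
    (b : ∀ y : Fin k → FixPt Y Ω, C.M ((st ↥(Nz Y) y).map (Nz Y).subtype)) (x : Fin k → Ω) : C.M (st G x) :=
  if h : (st G x ∈ V ∧ X (st G x) = Y) ∧ Y ≤ st G x ∧ st G x ≤ Nz Y then
    C.res (st_le_map x h.2.1 h.2.2) (b (lift x h.2.1)) else 0

theorem cond_of_good (h1 : ∀ P ∈ V, X P ≤ P) (h2 : ∀ (g : G), ∀ P ∈ V, X (cj g P) = cj g (X P)) {k : ℕ}
    {x : Fin k → Ω} (h : st G x ∈ V ∧ X (st G x) = Y) :
    (st G x ∈ V ∧ X (st G x) = Y) ∧ Y ≤ st G x ∧ st G x ≤ Nz Y := by
  refine ⟨h, ?_, ?_⟩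
  · have := h1 _ h.1
    rwa [h.2] at this
  · have := le_Nz h2 h.1
    rwa [h.2] at this

theorem glob_supp {k : ℕ} (b : ∀ y : Fin k → FixPt Y Ω, C.M ((st ↥(Nz Y) y).map (Nz Y).subtype)) (x : Fin k → Ω)
    (h : ¬ (st G x ∈ V ∧ X (st G x) = Y)) : glob C V X Y b x = 0 := by
  unfold glob
  rw [dif_neg fun h' => h h'.1]

theorem glob_pull (hVi : IsInv V) (h1 : ∀ P ∈ V, X P ≤ P) (h2 : ∀ (g : G), ∀ P ∈ V, X (cj g P) = cj g (X P))
    {k : ℕ} {b : ∀ y : Fin k → FixPt Y Ω, C.M ((st ↥(Nz Y) y).map (Nz Y).subtype)}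
    (hb : (C.restr (Nz Y)).IsCoch (W V X Y) b) {n : G} (hn : n ∈ Nz Y) :
    pull C n (glob C V X Y b) = glob C V X Y b := by
  classical
  funext x
  by_cases h : st G x ∈ V ∧ X (st G x) = Y
  · have hx := cond_of_good h1 h2 h
    have hx' := cond_of_good h1 h2 (good_smul hVi h2 hn h)
    unfold pull glob
    rw [dif_pos hx, dif_pos hx']
    have h5 := hb.equiv (⟨n, hn⟩ : ↥(Nz Y)) (lift x hx.2.1)
    rw [← h5]
    change C.τ n _ _ _ (C.res _ _) = C.res _ (C.τ n _ _ _ _)
    unfold Coef.res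
    have hle : ∀ u ∈ st G x, (1 * n) * u * (1 * n)⁻¹ ∈
        (st ↥(Nz Y) (lift (n • x) hx'.2.1)).map (Nz Y).subtype := fun u hu => by
      rw [one_mul]
      exact st_le_map _ hx'.2.1 hx'.2.2 (Coef.conj_st G n _ u hu)
    have hle' : ∀ u ∈ st G x, (n * 1) * u * (n * 1)⁻¹ ∈
        (st ↥(Nz Y) ((⟨n, hn⟩ : ↥(Nz Y)) • lift x hx.2.1)).map (Nz Y).subtype := fun u hu => by
      rw [mul_one]
      exact st_le_map _ hx'.2.1 hx'.2.2 (Coef.conj_st G n _ u hu)
    rw [C.τ_comp _ _ _ _ _ _ _ hle, C.τ_comp _ _ _ _ _ _ _ hle']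
    exact tau_congr' C (by rw [mul_one, one_mul]) (fun y => (st ↥(Nz Y) y).map (Nz Y).subtype) b rfl _ _
  · have h' : ¬ (st G (n • x) ∈ V ∧ X (st G (n • x)) = Y) := by
      intro h'
      apply h
      have h5 := good_smul hVi h2 ((Nz Y).inv_mem hn) h'
      rwa [inv_smul_smul] at h5
    rw [glob_supp C b x h]
    unfold pull
    rw [glob_supp C b _ h', map_zero]

theorem glob_dd {p : ℕ} [Fact p.Prime] [Finite G] (hΩ : PSet p G Ω) (h1 : ∀ P ∈ V, X P ≤ P)
    (h2 : ∀ (g : G), ∀ P ∈ V, X (cj g P) = cj g (X P)) {k : ℕ}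
    {c : ∀ x : Fin (k + 2) → Ω, C.M (st G x)}
    {b : ∀ y : Fin (k + 1) → FixPt Y Ω, C.M ((st ↥(Nz Y) y).map (Nz Y).subtype)}
    (hb : (C.restr (Nz Y)).IsCoch (W V X Y) b)
    (hcb : ∀ y, st ↥(Nz Y) y ∈ W V X Y → loc C V X Y c y = (C.restr (Nz Y)).dd b y) (x : Fin (k + 2) → Ω)
    (h : st G x ∈ V ∧ X (st G x) = Y) : c x = C.dd (glob C V X Y b) x := by
  classical
  have hx := cond_of_good h1 h2 h
  have hW : st ↥(Nz Y) (lift x hx.2.1) ∈ W V X Y := mem_W_of_good h2 _ h
  have e := hcb _ hW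
  have e1 : loc C V X Y c (lift x hx.2.1) = C.res (map_st_le Y (lift x hx.2.1)) (c x) := if_pos hW
  rw [e1] at e
  have e2 := congrArg (C.res (st_le_map x hx.2.1 hx.2.2)) (e.trans (restr_dd C b (lift x hx.2.1)))
  have e3 := ((res_self C le_rfl (c x)).symm.trans
    (res_res C (st_le_map x hx.2.1 hx.2.2) (map_st_le Y (lift x hx.2.1)) (c x)).symm).trans e2
  rw [e3]
  unfold Coef.dd
  rw [map_sum]
  refine Finset.sum_congr rfl fun i _ => ?_
  rw [map_zsmul]
  congr 1
  rw [res_res]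
  by_cases hf : st G (fun j => x (i.succAbove j)) ∈ V ∧ X (st G (fun j => x (i.succAbove j))) = Y
  · have hf' := cond_of_good h1 h2 hf
    unfold glob
    rw [dif_pos hf', res_res]
    rfl
  · have h0 : st ↥(Nz Y) (fun j => lift x hx.2.1 (i.succAbove j)) ∉ W V X Y := fun hW' =>
      hf (good_of_mem_W hΩ h2 _ hW')
    have h6 : b (fun j => lift x hx.2.1 (i.succAbove j)) = 0 := hb.supp _ h0
    rw [glob_supp C b _ hf, h6, map_zero, map_zero]

end

/-- the conjugates -/
def cls (Y : Subgroup G) : Set (Subgroup G) := {Z | ∃ g : G, cj g Y = Z}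

theorem cls_cj (g : G) (Y : Subgroup G) : cls (cj g Y) = cls Y := by
  ext Z
  constructor
  · rintro ⟨h, rfl⟩
    exact ⟨h * g, (cj_cj h g Y).symm⟩
  · rintro ⟨h, rfl⟩
    refine ⟨h * g⁻¹, ?_⟩
    rw [cj_cj, inv_mul_cancel_right]

open Classical in
/-- an element of a set of subgroups -/
noncomputable def repOf (S : Set (Subgroup G)) : Subgroup G := if h : S.Nonempty then h.some else ⊥

/-- the representative of the conjugacy class -/
noncomputable def rep (Y : Subgroup G) : Subgroup G := repOf (cls Y)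

theorem rep_cj (g : G) (Y : Subgroup G) : rep (cj g Y) = rep Y := congrArg repOf (cls_cj g Y)

theorem exists_rep (Y : Subgroup G) : ∃ g : G, cj g Y = rep Y := by
  have h : (cls Y).Nonempty := ⟨_, 1, rfl⟩
  have h1 : rep Y = h.some := dif_pos h
  rw [h1]
  exact h.some_mem

/-- **localization** (F3) -/
theorem Coef.van_of_local {p : ℕ} [Fact p.Prime] [Finite G] (hΩ : PSet p G Ω) {V : Set (Subgroup G)}
    (hVi : IsInv V) (X : Subgroup G → Subgroup G) (h1 : ∀ P ∈ V, X P ≤ P)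
    (h2 : ∀ (g : G), ∀ P ∈ V, X (cj g P) = cj g (X P))
    (h3 : ∀ P ∈ V, ∀ Q ∈ V, P ≤ Q → X P = X Q) (n : ℕ)
    (h : ∀ P ∈ V, (C.restr (Nz (X P))).Van (FixPt (X P) Ω)
      {Q | Q.map (Nz (X P)).subtype ∈ V ∧ X (Q.map (Nz (X P)).subtype) = X P} n) :
    C.Van Ω V n := by
  classical
  have hloc : ∀ (k : ℕ) (c : ∀ x : Fin k → Ω, C.M (st G x)), C.IsCoch V c → C.IsCoc V c → ∀ Y,
      (C.restr (Nz Y)).IsCoc (W V X Y) (loc C V X Y c) := by
    intro k c hc hcoc Y y hy
    have e := loc_dd C hΩ h2 h3 hc y hy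
    rw [hcoc _ (good_of_mem_W hΩ h2 y hy).1, map_zero] at e
    exact e
  cases n with
  | zero =>
    intro c hc hcoc x
    by_cases hx : st G x ∈ V
    · have hx' := cond_of_good (Y := X (st G x)) h1 h2 ⟨hx, rfl⟩
      have e := h _ hx (loc C V X (X (st G x)) c) (loc_coch C hVi h2 hc) (hloc 1 c hc hcoc _) (lift x hx'.2.1)
      have hW : st ↥(Nz (X (st G x))) (lift x hx'.2.1) ∈ W V X (X (st G x)) := mem_W_of_good h2 _ hx'.1
      have e1 : loc C V X (X (st G x)) c (lift x hx'.2.1) =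
        C.res (map_st_le (X (st G x)) (lift x hx'.2.1)) (c x) := if_pos hW
      have e2 := congrArg (C.res (st_le_map x hx'.2.1 hx'.2.2)) (e1.symm.trans e)
      have e3 := ((res_self C le_rfl (c x)).symm.trans
        (res_res C (st_le_map x hx'.2.1 hx'.2.2) (map_st_le _ (lift x hx'.2.1)) (c x)).symm).trans e2
      exact e3.trans (map_zero (C.res (st_le_map x hx'.2.1 hx'.2.2)))
    · exact hc.supp x hx
  | succ n =>
    intro c hc hcoc
    have key : ∀ Y : Subgroup G, ∃ β : ∀ x : Fin (n + 1) → Ω, C.M (st G x), (∃ P ∈ V, X P = Y) →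
        (∀ x, ¬ (st G x ∈ V ∧ X (st G x) = Y) → β x = 0) ∧ (∀ g ∈ Nz Y, pull C g β = β) ∧
          ∀ x : Fin (n + 2) → Ω, st G x ∈ V ∧ X (st G x) = Y → c x = C.dd β x := by
      intro Y
      by_cases hY : ∃ P ∈ V, X P = Y
      · obtain ⟨P, hP, rfl⟩ := hY
        obtain ⟨b, hb, hcb⟩ := h P hP (loc C V X (X P) c) (loc_coch C hVi h2 hc) (hloc _ c hc hcoc _)
        exact ⟨glob C V X (X P) b, fun _ => ⟨fun x hx => glob_supp C b x hx,
          fun g hg => glob_pull C hVi h1 h2 hb hg, fun x hx => glob_dd C hΩ h1 h2 hb hcb x hx⟩⟩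
      · exact ⟨fun _ => 0, fun h => absurd h hY⟩
    choose B hB using key
    choose γ hγ using exists_rep (G := G)
    let b : ∀ x : Fin (n + 1) → Ω, C.M (st G x) := fun x =>
      if st G x ∈ V then pull C (γ (X (st G x))) (B (rep (X (st G x)))) x else 0
    have hrep : ∀ P ∈ V, ∃ P' ∈ V, X P' = rep (X P) := fun P hP =>
      ⟨cj (γ (X P)) P, hVi _ _ hP, by rw [h2 _ _ hP, hγ]⟩
    refine ⟨b, ⟨fun g x => ?_, fun x hx => if_neg hx⟩, fun x hx => ?_⟩
    · -- equivariance
      by_cases hx : st G x ∈ V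
      · have hx' : st G (g • x) ∈ V := by rw [st_smul]; exact hVi _ _ hx
        have eX : X (st G (g • x)) = cj g (X (st G x)) := by rw [st_smul, h2 _ _ hx]
        have eb : b (g • x) = pull C (γ (X (st G (g • x)))) (B (rep (X (st G (g • x))))) (g • x) := if_pos hx'
        have eb' : b x = pull C (γ (X (st G x))) (B (rep (X (st G x)))) x := if_pos hx
        rw [eb, eb', eX, rep_cj]
        have e1 := congrFun (pull_pull C g (γ (cj g (X (st G x)))) (B (rep (X (st G x))))) x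
        refine Eq.trans e1 ?_
        obtain ⟨-, hpull, -⟩ := hB (rep (X (st G x))) (hrep _ hx)
        have hm : γ (cj g (X (st G x))) * g * (γ (X (st G x)))⁻¹ ∈ Nz (rep (X (st G x))) := by
          refine mem_Nz.2 ?_
          conv_lhs => rw [← hγ (X (st G x))]
          rw [cj_cj, inv_mul_cancel_right, ← cj_cj, hγ, rep_cj]
        have e2 := pull_pull C (γ (X (st G x))) (γ (cj g (X (st G x))) * g * (γ (X (st G x)))⁻¹)
          (B (rep (X (st G x))))
        rw [hpull _ hm, inv_mul_cancel_right] at e2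
        exact (congrFun e2 x).symm
      · have hx' : st G (g • x) ∉ V := by
          rw [st_smul, cj_mem_iff hVi]
          exact hx
        have eb : b (g • x) = 0 := if_neg hx'
        have eb' : b x = 0 := if_neg hx
        rw [eb, eb', map_zero]
    · -- the equation
      obtain ⟨hsupp, hpull, heq⟩ := hB (rep (X (st G x))) (hrep _ hx)
      have hfx : ∀ i, b (fun j => x (Fin.succAbove i j)) =
          pull C (γ (X (st G x))) (B (rep (X (st G x)))) (fun j => x (Fin.succAbove i j)) := by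
        intro i
        by_cases hf : st G (fun j => x (Fin.succAbove i j)) ∈ V
        · have eb : b (fun j => x (Fin.succAbove i j)) = pull C (γ (X (st G (fun j => x (Fin.succAbove i j)))))
            (B (rep (X (st G (fun j => x (Fin.succAbove i j)))))) (fun j => x (Fin.succAbove i j)) := if_pos hf
          rw [eb, ← h3 _ hx _ hf (Coef.st_succAbove_le G x i)]
        · have eb : b (fun j => x (Fin.succAbove i j)) = 0 := if_neg hf
          rw [eb]
          unfold pull
          rw [hsupp, map_zero]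
          rintro ⟨h4, -⟩
          rw [st_smul, cj_mem_iff hVi] at h4
          exact hf h4
      have e1 : C.dd b x = C.dd (pull C (γ (X (st G x))) (B (rep (X (st G x))))) x := by
        unfold Coef.dd
        refine Finset.sum_congr rfl fun i _ => ?_
        rw [hfx i]
      rw [e1, dd_pull]
      unfold pull
      rw [← heq]
      · exact (hc.equiv _ _).symm
      · rw [st_smul]
        refine ⟨hVi _ _ hx, ?_⟩
        rw [h2 _ _ hx, hγ]

end Main

end Cfsg.Agent.H118.Lim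
end

-- part: H835/Lim/Thompson
section
/-!
# GA1 (S5242): facts on the Thompson subgroup
-/

set_option autoImplicit false

namespace Cfsg.Agent.H835.Lim

open Cfsg.Agent.H539.Lim

universe u

variable {G : Type u} [Group G]

theorem bdd_dmax [Finite G] (P : Subgroup G) :
    BddAbove {n : ℕ | ∃ A : Subgroup G, A ≤ P ∧ IsAb A ∧ Nat.card A = n} :=
  ⟨Nat.card G, by rintro n ⟨A, -, -, rfl⟩; exact Subgroup.card_le_card_group A⟩

theorem le_dmax [Finite G] {P A : Subgroup G} (h : A ≤ P) (hA : IsAb A) : Nat.card A ≤ dmax P :=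
  le_csSup (bdd_dmax P) ⟨A, h, hA, rfl⟩

theorem exists_dmax [Finite G] (P : Subgroup G) : ∃ A ≤ P, IsAb A ∧ Nat.card A = dmax P := by
  have h : dmax P ∈ {n : ℕ | ∃ A : Subgroup G, A ≤ P ∧ IsAb A ∧ Nat.card A = n} :=
    Nat.sSup_mem ⟨1, ⊥, bot_le, (by
      intro a ha b hb
      rw [Subgroup.mem_bot.1 ha, Subgroup.mem_bot.1 hb]), Subgroup.card_bot⟩ (bdd_dmax P)
  obtain ⟨A, h1, h2, h3⟩ := h
  exact ⟨A, h1, h2, h3⟩

theorem dmax_mono [Finite G] {P Q : Subgroup G} (h : P ≤ Q) : dmax P ≤ dmax Q := by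
  obtain ⟨A, h1, h2, h3⟩ := exists_dmax P
  rw [← h3]
  exact le_dmax (h1.trans h) h2

theorem JT_le [Finite G] (P : Subgroup G) : JT P ≤ P := sSup_le fun _ hA => hA.1

theorem le_JT {P A : Subgroup G} (h : A ≤ P) (hA : IsAb A) (hc : Nat.card A = dmax P) : A ≤ JT P :=
  le_sSup ⟨h, hA, hc⟩

theorem JT_mono [Finite G] {P Q : Subgroup G} (h : P ≤ Q) (hd : dmax P = dmax Q) : JT P ≤ JT Q :=
  sSup_le fun _ hA => le_sSup ⟨hA.1.trans h, hA.2.1, hA.2.2.trans hd⟩

theorem dmax_of_JT_le [Finite G] {P Q : Subgroup G} (h1 : JT P ≤ Q) (h2 : Q ≤ P) : dmax Q = dmax P := by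
  apply le_antisymm (dmax_mono h2)
  obtain ⟨A, h3, h4, h5⟩ := exists_dmax P
  rw [← h5]
  exact le_dmax ((le_JT h3 h4 h5).trans h1) h4

theorem JT_JT [Finite G] (P : Subgroup G) : JT (JT P) = JT P ∧ dmax (JT P) = dmax P := by
  have hd := dmax_of_JT_le (P := P) le_rfl (JT_le P)
  refine ⟨le_antisymm (JT_le _) ?_, hd⟩
  exact sSup_le fun A hA => le_sSup ⟨le_JT hA.1 hA.2.1 hA.2.2, hA.2.1, hA.2.2.trans hd.symm⟩

theorem JT_sandwich [Finite G] {P Q : Subgroup G} (h1 : JT P ≤ Q) (h2 : Q ≤ P) : JT Q = JT P := by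
  have hd := dmax_of_JT_le h1 h2
  apply le_antisymm (JT_mono h2 hd)
  rw [← (JT_JT P).1]
  exact JT_mono h1 ((JT_JT P).2.trans hd.symm)

theorem cj_inv_cj (g : G) (P : Subgroup G) : cj g⁻¹ (cj g P) = P := by
  ext x
  constructor
  · rintro ⟨_, ⟨y, hy, rfl⟩, rfl⟩
    change g⁻¹ * (g * y * g⁻¹) * g⁻¹⁻¹ ∈ P
    have e : g⁻¹ * (g * y * g⁻¹) * g⁻¹⁻¹ = y := by group
    rw [e]
    exact hy
  · intro hx
    refine ⟨_, ⟨x, hx, rfl⟩, ?_⟩
    change g⁻¹ * (g * x * g⁻¹) * g⁻¹⁻¹ = x
    group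

theorem cj_mono (g : G) {P Q : Subgroup G} (h : P ≤ Q) : cj g P ≤ cj g Q := Subgroup.map_mono h

theorem card_cj (g : G) (P : Subgroup G) : Nat.card (cj g P) = Nat.card P :=
  Subgroup.card_map_of_injective (MulAut.conj g).injective

theorem isAb_cj (g : G) {A : Subgroup G} (hA : IsAb A) : IsAb (cj g A) := by
  rintro _ ⟨a, ha, rfl⟩ _ ⟨b, hb, rfl⟩
  rw [← map_mul, ← map_mul, hA a ha b hb]

theorem dmax_conj_le [Finite G] (g : G) (P : Subgroup G) : dmax P ≤ dmax (cj g P) := by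
  obtain ⟨A, h1, h2, h3⟩ := exists_dmax P
  rw [← h3, ← card_cj g A]
  exact le_dmax (cj_mono g h1) (isAb_cj g h2)

theorem dmax_conj [Finite G] (g : G) (P : Subgroup G) : dmax (cj g P) = dmax P := by
  apply le_antisymm _ (dmax_conj_le g P)
  have := dmax_conj_le g⁻¹ (cj g P)
  rwa [cj_inv_cj] at this

theorem JT_conj_le [Finite G] (g : G) (P : Subgroup G) : cj g (JT P) ≤ JT (cj g P) := by
  rw [Subgroup.map_le_iff_le_comap]
  refine sSup_le fun A hA => ?_
  rw [← Subgroup.map_le_iff_le_comap]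
  exact le_JT (cj_mono g hA.1) (isAb_cj g hA.2.1) ((card_cj g A).trans (hA.2.2.trans (dmax_conj g P).symm))

theorem JT_conj [Finite G] (g : G) (P : Subgroup G) : JT (cj g P) = cj g (JT P) ∧ dmax (cj g P) = dmax P := by
  refine ⟨le_antisymm ?_ (JT_conj_le g P), dmax_conj g P⟩
  have h1 := cj_mono g (JT_conj_le g⁻¹ (cj g P))
  rw [cj_inv_cj] at h1
  have h2 := cj_inv_cj g⁻¹ (JT (cj g P))
  rw [inv_inv] at h2
  rwa [h2] at h1

theorem centralizer_JT [Finite G] (P : Subgroup G) (u : G) (hu : u ∈ P) (hc : ∀ v ∈ JT P, u * v = v * u) :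
    u ∈ JT P := by
  obtain ⟨A, h1, h2, h3⟩ := exists_dmax P
  have hA : A ≤ JT P := le_JT h1 h2 h3
  let S : Set G := insert u (A : Set G)
  have hS : S ⊆ Subgroup.centralizer S := by
    intro x hx
    rw [SetLike.mem_coe, Subgroup.mem_centralizer_iff]
    intro y hy
    rcases hx with rfl | hx <;> rcases hy with rfl | hy
    · rfl
    · exact (hc y (hA hy)).symm
    · exact hc x (hA hx)
    · exact h2 y hy x hx
  have hB : IsAb (Subgroup.closure S) := by
    intro a ha b hb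
    have h4 : Subgroup.closure S ≤ Subgroup.centralizer S := (Subgroup.closure_le _).2 hS
    have h5 : Subgroup.closure S ≤ Subgroup.centralizer (Subgroup.closure S : Set G) := by
      rw [Subgroup.centralizer_closure]
      exact h4
    exact (Subgroup.mem_centralizer_iff.1 (h5 ha) b hb).symm
  have hBP : Subgroup.closure S ≤ P := by
    rw [Subgroup.closure_le]
    rintro x (rfl | hx)
    · exact hu
    · exact h1 hx
  have hAB : A ≤ Subgroup.closure S := fun x hx => Subgroup.subset_closure (Or.inr hx)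
  have h6 : A = Subgroup.closure S := by
    apply Subgroup.eq_of_le_of_card_ge hAB
    rw [h3]
    exact le_dmax hBP hB
  apply hA
  rw [h6]
  exact Subgroup.subset_closure (Or.inl rfl)

end Cfsg.Agent.H835.Lim
end

-- part: H729/Lim/TvTools
section
/-!
# S5242, [C4b]: transvections, case S (helper729)
-/

set_option autoImplicit false

namespace Cfsg.Agent.H729.Lim

open MulAction Cfsg.Agent.H539.Lim

universe u v w

section tv

variable {G : Type*} [Group G] {D : Type*} [AddCommGroup D] [DistribMulAction G D]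

theorem z2 (x : ZMod 2) : x = 0 ∨ x = 1 := by
  revert x
  decide

theorem val_cases {x : ZMod 2} (z : D) : (x = 0 ∧ x.val • z = 0) ∨ (x = 1 ∧ x.val • z = z) := by
  rcases z2 x with rfl | rfl
  · left
    exact ⟨rfl, by rw [ZMod.val_zero, zero_smul]⟩
  · right
    exact ⟨rfl, by rw [ZMod.val_one, one_smul]⟩

variable {a b : G} {f g : D →+ ZMod 2} {z t : D}

theorem tv_inv_eq (ha : Tv a f z) : a⁻¹ = a := inv_eq_of_mul_eq_one_left ha.sq

theorem tv_act0 (ha : Tv a f z) {d : D} (h : f d = 0) : a • d = d := by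
  rw [ha.act, h, ZMod.val_zero, zero_smul, add_zero]

theorem tv_act1 (ha : Tv a f z) {d : D} (h : f d = 1) : a • d = d + z := by
  rw [ha.act, h, ZMod.val_one, one_smul]

theorem tv_smul_z (ha : Tv a f z) : a • z = z := (tv_act0 ha) ha.fz

/-- a functional killing the centre is invariant -/
theorem tv_inv_fun (ha : Tv a f z) (h : g z = 0) (d : D) : g (a • d) = g d := by
  rw [ha.act, map_add, map_nsmul, h, smul_zero, add_zero]

theorem tv_conj' (hb : Tv b g t) (x : G) (h : ∀ d : D, g (x⁻¹ • d) = g d) : Tv (x * b * x⁻¹) g (x • t) where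
  ne_one := fun h1 => hb.ne_one (by
    have : b = x⁻¹ * (x * b * x⁻¹) * x := by group
    rw [this, h1]
    group)
  sq := by
    calc x * b * x⁻¹ * (x * b * x⁻¹) = x * (b * b) * x⁻¹ := by group
      _ = 1 := by rw [hb.sq]; group
  z_ne := fun h1 => hb.z_ne (by
    have h2 : x⁻¹ • x • t = x⁻¹ • (0 : D) := by rw [h1]
    rwa [inv_smul_smul, smul_zero] at h2)
  two_z := by rw [← smul_add, hb.two_z, smul_zero]
  f_ne := hb.f_ne
  fz := by
    rw [← h, inv_smul_smul]
    exact hb.fz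
  act := by
    intro d
    rw [mul_smul, mul_smul, hb.act, smul_add, smul_inv_smul, h, smul_comm x]

theorem tv_conj_tv (ha : Tv a f z) (hb : Tv b g t) (h1 : f t = 1) (h2 : g z = 0) :
    Tv (a * b * a⁻¹) g (t + z) := by
  have h := (tv_conj' hb) a (fun d => by rw [(tv_inv_eq ha)]; exact (tv_inv_fun ha) h2 d)
  rwa [(tv_act1 ha) h1] at h

variable {P : Subgroup G}

theorem eq_of_act (hfaith : ∀ g ∈ P, (∀ d : D, g • d = d) → g = 1) (ha : a ∈ P) (hb : b ∈ P)
    (h : ∀ d : D, a • d = b • d) : a = b := by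
  have h1 := hfaith (b⁻¹ * a) (mul_mem (inv_mem hb) ha) (fun d => by rw [mul_smul, h, inv_smul_smul])
  rw [inv_mul_eq_one] at h1
  exact h1.symm

/-- transvections killing each other's centres commute -/
theorem comm_of (hfaith : ∀ g ∈ P, (∀ d : D, g • d = d) → g = 1) (haP : a ∈ P) (hbP : b ∈ P) (ha : Tv a f z)
    (hb : Tv b g t) (h1 : f t = 0) (h2 : g z = 0) : a * b = b * a := by
  refine eq_of_act hfaith (mul_mem haP hbP) (mul_mem hbP haP) fun d => ?_
  rw [mul_smul, mul_smul, hb.act, ha.act d, smul_add, smul_add, smul_comm a, smul_comm b, (tv_act0 ha) h1, (tv_act0 hb) h2,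
    ha.act, hb.act]
  abel

/-- two non-commuting transvections of a 2-group -/
theorem dicho (hP : IsPGroup 2 P) (hfaith : ∀ g ∈ P, (∀ d : D, g • d = d) → g = 1) (haP : a ∈ P) (hbP : b ∈ P)
    (ha : Tv a f z) (hb : Tv b g t) (hab : a * b ≠ b * a) : (f t = 1 ∧ g z = 0) ∨ (f t = 0 ∧ g z = 1) := by
  rcases z2 (f t) with h1 | h1 <;> rcases z2 (g z) with h2 | h2
  · exact (hab (comm_of hfaith haP hbP ha hb h1 h2)).elim
  · exact Or.inr ⟨h1, h2⟩
  · exact Or.inl ⟨h1, h2⟩
  · exfalso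
    -- `a b` permutes `z, t, t + z`
    have c1 : (a * b) • z = t := by
      rw [mul_smul, (tv_act1 hb) h2, smul_add, (tv_smul_z ha), (tv_act1 ha) h1, add_left_comm, ha.two_z, add_zero]
    have c2 : (a * b) • t = t + z := by
      rw [mul_smul, (tv_smul_z hb), (tv_act1 ha) h1]
    have c3 : (a * b) • (t + z) = z := by
      rw [smul_add, c1, c2, add_right_comm, hb.two_z, zero_add]
    have hzt : t ≠ z := by
      intro h
      rw [h, ha.fz] at h1
      exact zero_ne_one h1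
    have hzt2 : t + z ≠ z := by
      intro h
      exact hb.z_ne (by simpa using h)
    have c4 : (a * b) ^ 3 • z = z := by
      rw [pow_succ, pow_succ, pow_one, mul_smul, mul_smul, c1, c2, c3]
    have c5 : ∀ q : ℕ, ((a * b) ^ 3) ^ q • z = z := by
      intro q
      induction q with
      | zero => rw [pow_zero, one_smul]
      | succ q ih => rw [pow_succ, mul_smul, c4, ih]
    obtain ⟨k, hk⟩ := hP ⟨a * b, mul_mem haP hbP⟩
    have hk' : (a * b) ^ 2 ^ k = 1 := by
      have := congrArg Subtype.val hk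
      simpa using this
    have h3 : ¬ 3 ∣ 2 ^ k := by
      intro h
      have := (Nat.prime_three.dvd_of_dvd_pow h)
      omega
    have h4 : 2 ^ k = 3 * (2 ^ k / 3) + 2 ^ k % 3 := (Nat.div_add_mod _ _).symm
    have h5 : 2 ^ k % 3 = 1 ∨ 2 ^ k % 3 = 2 := by omega
    rw [h4, add_comm, pow_add, pow_mul] at hk'
    have h6 : (a * b) ^ (2 ^ k % 3) • z = z := by
      have h7 : ((a * b) ^ (2 ^ k % 3) * ((a * b) ^ 3) ^ (2 ^ k / 3)) • z = z := by rw [hk', one_smul]
      rwa [mul_smul, c5] at h7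
    rcases h5 with h5 | h5
    · rw [h5, pow_one, c1] at h6
      exact hzt h6
    · rw [h5, pow_two, mul_smul, c1, c2] at h6
      exact hzt2 h6

end tv

section main

variable {G : Type u} [Group G] {Ω : Type v} [MulAction G Ω] {D : Type w} [AddCommGroup D] [DistribMulAction G D]

/-- two non-commuting transvections in a faithful 2-group give two transvections with the same functional -/
theorem exists_same_of_not_commute {P : Subgroup G} (hP : IsPGroup 2 P) (hfaith : ∀ g ∈ P, (∀ d : D, g • d = d) → g = 1)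
    {a b : G} (haP : a ∈ P) (hbP : b ∈ P) {f g : D →+ ZMod 2} {z t : D} (ha : Tv a f z) (hb : Tv b g t)
    (hab : a * b ≠ b * a) : ∃ a' ∈ P, ∃ b' ∈ P, ∃ (f' : D →+ ZMod 2) (z' t' : D), Tv a' f' z' ∧ Tv b' f' t' ∧ a' ≠ b' := by
  rcases dicho hP hfaith haP hbP ha hb hab with ⟨h1, h2⟩ | ⟨h1, h2⟩
  · refine ⟨a * b * a⁻¹, mul_mem (mul_mem haP hbP) (inv_mem haP), b, hbP, g, t + z, t, (tv_conj_tv ha) hb h1 h2, hb, ?_⟩
    intro h
    exact hab (mul_inv_eq_iff_eq_mul.1 h)
  · refine ⟨b * a * b⁻¹, mul_mem (mul_mem hbP haP) (inv_mem hbP), a, haP, f, z + t, z, (tv_conj_tv hb) ha h2 h1, ha, ?_⟩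
    intro h
    exact hab (mul_inv_eq_iff_eq_mul.1 h).symm

/-- case S, from C4a and `bo_same_axis` -/
theorem caseS_aux {Ω₀ : Finset Ω} {c : Ω → Ω → D} {x : Ω} (hP : IsPGroup 2 (stabilizer G x))
    (hfaith : ∀ g ∈ stabilizer G x, (∀ d : D, g • d = d) → g = 1)
    (hzero : ∀ {a : G}, a • x = x → ∀ {A : Subgroup G}, A ≤ stabilizer G x → A ≠ ⊥ → BO D A → NGood 2 D A →
      (∀ b ∈ A, a * b = b * a) → Vv Ω₀ c a x = 0)
    (hpair : ∀ {a b : G} {f g : D →+ ZMod 2} {z t : D}, Tv a f z → Tv b g t → a * b = b * a → a • x = x → b • x = x →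
      ∃ i j : ℕ, Vv Ω₀ c a x + Vv Ω₀ c b x = i • z + j • t)
    (hbo : ∀ {a b : G} {f : D →+ ZMod 2} {z t : D}, Tv a f z → Tv b f t → a * b = b * a → a ≠ b →
      (∀ g ∈ Subgroup.closure {a, b}, (∀ d : D, g • d = d) → g = 1) →
      BO D (Subgroup.closure {a, b}) ∧ NGood 2 D (Subgroup.closure {a, b}) ∧ z ≠ t)
    {b d : G} {f : D →+ ZMod 2} {t t' : D} (hb : Tv b f t) (hd : Tv d f t') (hbd : b ≠ d)
    (hbx : b • x = x) (hdx : d • x = x) {a : G} {g : D →+ ZMod 2} {z : D} (ha : Tv a g z) (hax : a • x = x) :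
    Vv Ω₀ c a x = 0 ∨ Vv Ω₀ c a x = z := by
  -- two transvections with the same functional
  have key : ∀ {b d : G} {f : D →+ ZMod 2} {t t' : D}, Tv b f t → Tv d f t' → b ≠ d → b • x = x → d • x = x →
      b * d = d * b ∧ Subgroup.closure {b, d} ≤ stabilizer G x ∧ Subgroup.closure {b, d} ≠ ⊥ ∧
      BO D (Subgroup.closure {b, d}) ∧ NGood 2 D (Subgroup.closure {b, d}) := by
    intro b d f t t' hb hd hbd hbx hdx
    have hc := comm_of hfaith (P := stabilizer G x) hbx hdx hb hd hd.fz hb.fz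
    have hle : Subgroup.closure {b, d} ≤ stabilizer G x := by
      rw [Subgroup.closure_le]
      rintro y (rfl | rfl)
      · exact hbx
      · exact hdx
    obtain ⟨h1, h2, -⟩ := hbo hb hd hc hbd (fun g hg => hfaith g (hle hg))
    refine ⟨hc, hle, ?_, h1, h2⟩
    intro h
    have h3 : b ∈ Subgroup.closure {b, d} := Subgroup.subset_closure (Or.inl rfl)
    rw [h, Subgroup.mem_bot] at h3
    exact hb.ne_one h3
  have comm_cl : ∀ {a b d : G}, a * b = b * a → a * d = d * a → ∀ y ∈ Subgroup.closure {b, d}, a * y = y * a := by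
    intro a b d h1 h2 y hy
    have hle : Subgroup.closure {b, d} ≤ Subgroup.centralizer {a} := by
      rw [Subgroup.closure_le]
      rintro y (rfl | rfl)
      · exact Subgroup.mem_centralizer_singleton_iff.2 h1.symm
      · exact Subgroup.mem_centralizer_singleton_iff.2 h2.symm
    exact (Subgroup.mem_centralizer_singleton_iff.1 (hle hy)).symm
  -- the main step
  have main : ∀ {e : G} {t : D}, Tv e f t → e • x = x → a * e ≠ e * a → Vv Ω₀ c a x = 0 ∨ Vv Ω₀ c a x = z := by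
    intro e t he hex hae
    rcases dicho hP hfaith (P := stabilizer G x) hax hex ha he hae with ⟨h1, h2⟩ | ⟨h1, h2⟩
    · -- `g t = 1`, `f z = 0`
      have he' := (tv_conj_tv ha) he h1 h2
      have hex' : (a * e * a⁻¹) • x = x := mul_mem (mul_mem (show a ∈ stabilizer G x from hax)
        (show e ∈ stabilizer G x from hex)) (inv_mem (show a ∈ stabilizer G x from hax))
      have hne : e ≠ a * e * a⁻¹ := by
        intro h
        exact hae (mul_inv_eq_iff_eq_mul.1 h.symm)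
      obtain ⟨hc, hle, hbot, hBO, hNG⟩ := key he he' hne hex hex'
      -- `δ = e e'`
      have hδ : Tv (e * (a * e * a⁻¹)) f z := by
        refine ⟨?_, ?_, ha.z_ne, ha.two_z, he.f_ne, h2, ?_⟩
        · intro h
          apply hne
          rw [mul_eq_one_iff_eq_inv, (tv_inv_eq he')] at h
          exact h
        · generalize a * e * a⁻¹ = e' at *
          calc e * e' * (e * e') = e * (e' * e) * e' := by group
            _ = (e * e) * (e' * e') := by rw [← hc]; group
            _ = 1 := by rw [he.sq, he'.sq, one_mul]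
        · intro v
          rw [mul_smul, he'.act, smul_add, smul_comm e, smul_add, (tv_smul_z he), (tv_act0 he) h2, he.act]
          rcases val_cases (x := f v) z with ⟨h3, -⟩ | ⟨h3, -⟩
          · rw [h3, ZMod.val_zero, zero_smul, zero_smul, zero_smul, add_zero, add_zero]
          · rw [h3, ZMod.val_one, one_smul, one_smul, one_smul]
            calc v + t + (t + z) = v + z + (t + t) := by abel
              _ = v + z := by rw [he.two_z, add_zero]
      have hδx : (e * (a * e * a⁻¹)) • x = x := mul_mem (show e ∈ stabilizer G x from hex) hex'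
      have hV : Vv Ω₀ c (e * (a * e * a⁻¹)) x = 0 := by
        refine hzero hδx hle hbot hBO hNG ?_
        apply comm_cl
        · generalize a * e * a⁻¹ = e' at *
          calc e * e' * e = e * (e' * e) := by group
            _ = e * (e * e') := by rw [← hc]
        · generalize a * e * a⁻¹ = e' at *
          calc e * e' * e' = e' * e * e' := by rw [hc]
            _ = e' * (e * e') := mul_assoc _ _ _
      have hca : a * (e * (a * e * a⁻¹)) = (e * (a * e * a⁻¹)) * a :=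
        comm_of hfaith (P := stabilizer G x) hax hδx ha hδ ha.fz h2
      obtain ⟨i, j, hij⟩ := hpair ha hδ hca hax hδx
      rw [hV, add_zero, ← add_smul] at hij
      rw [hij]
      rcases Nat.even_or_odd' (i + j) with ⟨k, hk | hk⟩
      · left
        rw [hk, mul_smul, two_smul, ← smul_add, ha.two_z, smul_zero]
      · right
        rw [hk, add_smul, mul_smul, two_smul, ← smul_add, ha.two_z, smul_zero, zero_add, one_smul]
    · -- `g t = 0`, `f z = 1`
      left
      have ha' := (tv_conj_tv he) ha h2 h1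
      have hax' : (e * a * e⁻¹) • x = x := mul_mem (mul_mem (show e ∈ stabilizer G x from hex)
        (show a ∈ stabilizer G x from hax)) (inv_mem (show e ∈ stabilizer G x from hex))
      have hne : a ≠ e * a * e⁻¹ := by
        intro h
        exact hae (mul_inv_eq_iff_eq_mul.1 h.symm).symm
      obtain ⟨hc, hle, hbot, hBO, hNG⟩ := key ha ha' hne hax hax'
      exact hzero hax hle hbot hBO hNG (comm_cl rfl hc)
  by_cases h1 : a * b = b * a
  · by_cases h2 : a * d = d * a
    · left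
      obtain ⟨hc, hle, hbot, hBO, hNG⟩ := key hb hd hbd hbx hdx
      exact hzero hax hle hbot hBO hNG (comm_cl h1 h2)
    · exact main hd hdx h2
  · exact main hb hbx h1

end main

end Cfsg.Agent.H729.Lim
end

-- part: H815/Lim/Vertex
section
/-!
# Vertex functions (helper815, for S5242, piece C4a)

* `c_eq_Vv`, `Vv_pair`, `Vv_eq_zero`
-/

set_option autoImplicit false

namespace Cfsg.Agent.H815.Lim

open MulAction Cfsg.Agent.H539.Lim

universe u v w

/-- a sum over a finite set with a fixed point free involution whose pair sums are in a subgroup -/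
theorem sum_mem_of_invol {Ω D : Type*} [AddCommGroup D] (H : AddSubgroup D) (Z : Finset Ω) (F : Ω → D) (σ : Ω → Ω)
    (h1 : ∀ y ∈ Z, σ y ∈ Z) (h2 : ∀ y ∈ Z, σ (σ y) = y) (h3 : ∀ y ∈ Z, σ y ≠ y)
    (h4 : ∀ y ∈ Z, F y + F (σ y) ∈ H) : ∑ y ∈ Z, F y ∈ H := by
  rw [← QuotientAddGroup.eq_zero_iff]
  have e : ((∑ y ∈ Z, F y : D) : D ⧸ H) = ∑ y ∈ Z, ((F y : D) : D ⧸ H) :=
    map_sum (QuotientAddGroup.mk' H) F Z
  rw [e]
  refine Finset.sum_involution (fun y _ => σ y) ?_ ?_ ?_ ?_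
  · intro y hy
    have := (QuotientAddGroup.eq_zero_iff (N := H) (F y + F (σ y))).2 (h4 y hy)
    exact this
  · intro y hy _
    exact h3 y hy
  · exact h1
  · exact h2

variable {G : Type u} [Group G] {Ω : Type v} [MulAction G Ω] {D : Type w} [AddCommGroup D] [DistribMulAction G D]

open Classical in
/-- an involution has an odd number of fixed points on a set of odd size -/
theorem odd_card_fix {Ω₀ : Finset Ω} (h0 : Orb2 G Ω₀) {a : G} (ha : a * a = 1) :
    Odd (Ω₀.filter (fun y => a • y = y)).card := by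
  have h1 : Even (Ω₀.filter (fun y => ¬ a • y = y)).card := by
    rw [← ZMod.natCast_eq_zero_iff_even]
    rw [Finset.cast_card]
    refine Finset.sum_involution (fun y _ => a • y) ?_ ?_ ?_ ?_
    · intro y hy
      decide
    · intro y hy _
      exact (Finset.mem_filter.1 hy).2
    · intro y hy
      rw [Finset.mem_filter] at hy ⊢
      refine ⟨h0.smul_mem a y hy.1, fun h => hy.2 ?_⟩
      have := congrArg (fun t => a⁻¹ • t) h
      simpa using this
    · intro y hy
      rw [smul_smul, ha, one_smul]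
  have h2 := Finset.card_filter_add_card_filter_not (s := Ω₀) (fun y => a • y = y)
  have h3 := h0.odd
  rw [← h2] at h3
  exact (Nat.odd_add.1 h3).2 h1

/-- `⟨a⟩` is a best offender for a transvection `a` -/
theorem tv_bo [Finite D] {a : G} {f : D →+ ZMod 2} {z : D} (ha : Tv a f z) : BO D (Subgroup.zpowers a) := by
  have h2 : a ^ 2 = 1 := by rw [pow_two, ha.sq]
  have hcard : Nat.card (Subgroup.zpowers a) = 2 := by
    rw [Nat.card_zpowers]
    exact orderOf_eq_prime h2 ha.ne_one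
  have hfin : Finite (Subgroup.zpowers a) := Nat.finite_of_card_ne_zero (by rw [hcard]; norm_num)
  refine ⟨?_, ?_⟩
  · intro x hx y hy
    obtain ⟨i, rfl⟩ := Subgroup.mem_zpowers_iff.1 hx
    obtain ⟨j, rfl⟩ := Subgroup.mem_zpowers_iff.1 hy
    exact zpow_mul_comm a i j
  · intro B hB
    have hd : Nat.card B ∣ 2 := by
      rw [← hcard]
      exact Subgroup.card_dvd_of_le hB
    rcases (Nat.dvd_prime Nat.prime_two).1 hd with h | h
    · -- `B = ⊥`
      have hB : B = ⊥ := Subgroup.card_eq_one.1 h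
      subst hB
      rw [h, one_mul, hcard]
      have e1 : Nat.card (DFix (⊥ : Subgroup G) D) ≤ Nat.card D := Nat.card_le_card_of_injective _ Subtype.val_injective
      have e2 : Nat.card (DFix (Subgroup.zpowers a) D) = Nat.card f.ker := by
        have : DFix (Subgroup.zpowers a) D = f.ker := by
          ext d
          constructor
          · intro hd
            have h1 : a • d = d := hd a (Subgroup.mem_zpowers a)
            rw [ha.act] at h1
            have h2 : (f d).val • z = 0 := by simpa using h1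
            rw [AddMonoidHom.mem_ker]
            have h3 : (f d).val < 2 := ZMod.val_lt _
            have h4 : (f d).val = 0 ∨ (f d).val = 1 := by omega
            rcases h4 with h4 | h4
            · exact (ZMod.val_eq_zero _).1 h4
            · rw [h4, one_smul] at h2
              exact absurd h2 ha.z_ne
          · intro hd
            rw [AddMonoidHom.mem_ker] at hd
            have h1 : a • d = d := by rw [ha.act, hd]; simp
            intro u hu
            obtain ⟨i, rfl⟩ := Subgroup.mem_zpowers_iff.1 hu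
            have : a ∈ stabilizer G d := h1
            exact Subgroup.zpow_mem _ this i
        rw [this]
      have e3 : Nat.card D = 2 * Nat.card f.ker := by
        have h1 := AddSubgroup.card_mul_index f.ker
        rw [← h1, AddSubgroup.index_ker, mul_comm]
        congr 1
        have : f.range = ⊤ := by
          obtain ⟨d, hd⟩ : ∃ d, f d ≠ 0 := by
            by_contra h
            push Not at h
            exact ha.f_ne (AddMonoidHom.ext h)
          rw [AddMonoidHom.range_eq_top]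
          intro x
          have h2 : ∀ s t : ZMod 2, s ≠ 0 → t = 0 ∨ t = s := by decide
          rcases h2 (f d) x hd with rfl | rfl
          · exact ⟨0, map_zero f⟩
          · exact ⟨d, rfl⟩
        rw [this]
        simp
      rw [e2, ← e3]
      exact e1
    · have hB' : B = Subgroup.zpowers a := by
        have := Subgroup.eq_of_le_of_card_ge hB (by rw [hcard, h])
        exact this
      rw [hB']

/-- a subgroup containing a transvection is in `Q0` -/
theorem tv_mem_Q0 [Finite D] {a : G} {f : D →+ ZMod 2} {z : D} (ha : Tv a f z) {P : Subgroup G} (h : a ∈ P) :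
    P ∈ Q0 G D :=
  ⟨Subgroup.zpowers a, Subgroup.zpowers_le.2 h, fun h1 => ha.ne_one (Subgroup.zpowers_eq_bot.1 h1), tv_bo ha⟩

variable {Ω₀ : Finset Ω} {c : Ω → Ω → D}

theorem coc2_self [Finite D] (hc : Coc2 G Ω₀ c) {x : Ω} (hx : x ∈ Ω₀) (h : stabilizer G x ∈ Q0 G D) : c x x = 0 := by
  have h1 := hc.coc x hx x hx x hx (by rw [inf_idem, inf_idem]; exact h)
  simpa using h1

/-- symmetry -/
theorem coc2_symm [Finite D] (hc : Coc2 G Ω₀ c) {x y : Ω} (hx : x ∈ Ω₀) (hy : y ∈ Ω₀)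
    (h : stabilizer G x ⊓ stabilizer G y ∈ Q0 G D) : c x y = - c y x := by
  have h0 : stabilizer G x ∈ Q0 G D := by
    obtain ⟨A, hA, h1⟩ := h
    exact ⟨A, hA.trans inf_le_left, h1⟩
  have h1 := hc.coc x hx y hy x hx (by rw [inf_right_comm, inf_idem]; exact h)
  rw [coc2_self hc hx h0] at h1
  exact eq_neg_of_add_eq_zero_left h1.symm

theorem c_eq_Vv [Finite D] {Ω₀ : Finset Ω} (h0 : Orb2 G Ω₀) {c : Ω → Ω → D} (hc : Coc2 G Ω₀ c)
    (h2 : ∀ x ∈ Ω₀, ∀ y ∈ Ω₀, 2 • c x y = 0) {a : G} {f : D →+ ZMod 2} {z : D} (ha : Tv a f z) {x y : Ω}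
    (hx : x ∈ Ω₀) (hy : y ∈ Ω₀) (hax : a • x = x) (hay : a • y = y) :
    c x y = Vv Ω₀ c a x + Vv Ω₀ c a y := by
  classical
  have key : ∀ t ∈ Ω₀.filter (fun t => a • t = t), c x t + c y t = c x y := by
    intro t ht
    rw [Finset.mem_filter] at ht
    have h1 := hc.coc x hx t ht.1 y hy (tv_mem_Q0 ha ⟨⟨hax, ht.2⟩, hay⟩)
    have h3 := coc2_symm hc ht.1 hy (tv_mem_Q0 ha ⟨ht.2, hay⟩)
    have h4 : - c y t = c y t := by
      rw [neg_eq_iff_add_eq_zero, ← two_nsmul]
      exact h2 y hy t ht.1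
    rw [h1, h3, h4]
  unfold Vv
  rw [← Finset.sum_add_distrib, Finset.sum_congr rfl (by convert key), Finset.sum_const]
  obtain ⟨k, hk⟩ := odd_card_fix h0 ha.sq
  have e : (Ω₀.filter (fun y => a • y = y)).card = 2 * k + 1 := hk
  have e2 : (Ω₀.filter (fun y => a • y = y)).card • c x y = c x y := by
    rw [e, add_smul, one_smul, mul_comm, mul_smul, h2 x hx y hy, smul_zero, zero_add]
  convert e2.symm

/-- multiples -/
theorem exists_nat_of_mem {t x : D} (ht : t + t = 0) (h : x ∈ AddSubgroup.zmultiples t) : ∃ j : ℕ, x = j • t := by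
  obtain ⟨n, hn⟩ := AddSubgroup.mem_zmultiples_iff.1 h
  rcases Int.eq_nat_or_neg n with ⟨j, rfl | rfl⟩
  · exact ⟨j, by rw [← hn, natCast_zsmul]⟩
  · refine ⟨j, ?_⟩
    rw [← hn, neg_smul, natCast_zsmul, ← smul_neg, neg_eq_iff_add_eq_zero.2 ht]

open Classical in
omit [DistribMulAction G D] in
theorem Vv_split {a b : G} (x : Ω) : Vv Ω₀ c a x = ∑ y ∈ Ω₀.filter (fun y => a • y = y ∧ b • y = y), c x y +
    ∑ y ∈ Ω₀.filter (fun y => a • y = y ∧ ¬ b • y = y), c x y := by
  unfold Vv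
  rw [← Finset.filter_filter, ← Finset.filter_filter]
  rw [Finset.sum_filter_add_sum_filter_not]

open Classical in
theorem sum_not_fix {Ω₀ : Finset Ω} (h0 : Orb2 G Ω₀) {c : Ω → Ω → D} (hc : Coc2 G Ω₀ c)
    (h2 : ∀ x ∈ Ω₀, ∀ y ∈ Ω₀, 2 • c x y = 0) {a b : G} {g : D →+ ZMod 2} {t : D}
    (hb : Tv b g t) (hab : a * b = b * a) {x : Ω} (hx : x ∈ Ω₀) (hbx : b • x = x) :
    ∑ y ∈ Ω₀.filter (fun y => a • y = y ∧ ¬ b • y = y), c x y ∈ AddSubgroup.zmultiples t := by
  refine sum_mem_of_invol _ _ _ (fun y => b • y) ?_ ?_ ?_ ?_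
  · intro y hy
    rw [Finset.mem_filter] at hy ⊢
    refine ⟨h0.smul_mem b y hy.1, ?_, fun h => hy.2.2 ?_⟩
    · rw [smul_smul, hab, mul_smul, hy.2.1]
    · have := congrArg (fun t => b⁻¹ • t) h
      simpa using this
  · intro y hy
    rw [smul_smul, hb.sq, one_smul]
  · intro y hy
    exact (Finset.mem_filter.1 hy).2.2
  · intro y hy
    have h1 : c x (b • y) = b • c x y := by
      have := hc.equiv b x y
      rwa [hbx] at this
    change c x y + c x (b • y) ∈ _
    rw [h1, hb.act, ← add_assoc, ← two_nsmul, h2 x hx y (Finset.mem_filter.1 hy).1, zero_add]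
    exact AddSubgroup.nsmul_mem _ (AddSubgroup.mem_zmultiples t) _

theorem Vv_pair {Ω₀ : Finset Ω} (h0 : Orb2 G Ω₀) {c : Ω → Ω → D} (hc : Coc2 G Ω₀ c)
    (h2 : ∀ x ∈ Ω₀, ∀ y ∈ Ω₀, 2 • c x y = 0) {a b : G} {f g : D →+ ZMod 2} {z t : D} (ha : Tv a f z)
    (hb : Tv b g t) (hab : a * b = b * a) {x : Ω} (hx : x ∈ Ω₀) (hax : a • x = x) (hbx : b • x = x) :
    ∃ i j : ℕ, Vv Ω₀ c a x + Vv Ω₀ c b x = i • z + j • t := by
  classical
  obtain ⟨j, hj⟩ := exists_nat_of_mem hb.two_z (sum_not_fix h0 hc h2 (a := a) hb hab hx hbx)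
  obtain ⟨i, hi⟩ := exists_nat_of_mem ha.two_z (sum_not_fix h0 hc h2 (a := b) ha hab.symm hx hax)
  refine ⟨i, j, ?_⟩
  rw [Vv_split (b := b), Vv_split (a := b) (b := a), hi, hj]
  have e : Ω₀.filter (fun y => b • y = y ∧ a • y = y) = Ω₀.filter (fun y => a • y = y ∧ b • y = y) :=
    Finset.filter_congr fun y _ => and_comm
  rw [e]
  have h3 : ∑ y ∈ Ω₀.filter (fun y => a • y = y ∧ b • y = y), c x y +
      ∑ y ∈ Ω₀.filter (fun y => a • y = y ∧ b • y = y), c x y = 0 := by
    rw [← two_nsmul, Finset.smul_sum]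
    exact Finset.sum_eq_zero fun y hy => h2 x hx y (Finset.mem_filter.1 hy).1
  calc _ = (∑ y ∈ Ω₀.filter (fun y => a • y = y ∧ b • y = y), c x y +
      ∑ y ∈ Ω₀.filter (fun y => a • y = y ∧ b • y = y), c x y) + (i • z + j • t) := by abel
    _ = _ := by rw [h3, zero_add]

/-- (α) -/
theorem Vv_eq_zero [Finite G]
    {Ω₀ : Finset Ω} (h0 : Orb2 G Ω₀) {c : Ω → Ω → D} (hc : Coc2 G Ω₀ c)
    (h2 : ∀ x ∈ Ω₀, ∀ y ∈ Ω₀, 2 • c x y = 0)
    (hs : ∀ x ∈ Ω₀, ∀ y ∈ Ω₀, stabilizer G x ⊓ stabilizer G y ∈ Qs G D → c x y = 0)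
    {a : G} {x : Ω} (hx : x ∈ Ω₀) (_hax : a • x = x) {A : Subgroup G} (hA : A ≤ stabilizer G x) (hA1 : A ≠ ⊥)
    (hAB : BO D A) (hAg : NGood 2 D A) (hcomm : ∀ b ∈ A, a * b = b * a) : Vv Ω₀ c a x = 0 := by
  classical
  have hP : IsPGroup 2 A := by
    obtain ⟨S, hS⟩ := h0.sylow x hx
    exact (S.isPGroup'.to_le (hA.trans hS.ge))
  have e1 : Vv Ω₀ c a x = ∑ y ∈ (Ω₀.filter (fun y => a • y = y)).filter (fun y => A ≤ stabilizer G y), c x y +
      ∑ y ∈ (Ω₀.filter (fun y => a • y = y)).filter (fun y => ¬ A ≤ stabilizer G y), c x y := by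
    rw [Finset.sum_filter_add_sum_filter_not]
    unfold Vv
    congr
  have e2 : ∑ y ∈ (Ω₀.filter (fun y => a • y = y)).filter (fun y => A ≤ stabilizer G y), c x y = 0 := by
    refine Finset.sum_eq_zero fun y hy => ?_
    rw [Finset.mem_filter, Finset.mem_filter] at hy
    exact hs x hx y hy.1.1 ⟨A, le_inf hA hy.2, hA1, hAB, hAg⟩
  obtain ⟨m, -, hm⟩ := H481.Lim.NGood.sum_eq hP hAg ((Ω₀.filter (fun y => a • y = y)).filter (fun y => ¬ A ≤ stabilizer G y))
    (by
      intro b hb y hy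
      rw [Finset.mem_filter, Finset.mem_filter] at hy ⊢
      refine ⟨⟨h0.smul_mem b y hy.1.1, ?_⟩, fun h => hy.2 ?_⟩
      · rw [smul_smul, hcomm b hb, mul_smul, hy.1.2]
      · intro u hu
        have h3 : b * u * b⁻¹ ∈ A := A.mul_mem (A.mul_mem hb hu) (A.inv_mem hb)
        have h4 : (b * u * b⁻¹) • b • y = b • y := h h3
        have h5 := congrArg (fun t => b⁻¹ • t) h4
        simpa [smul_smul, mul_assoc] using h5)
    (fun y hy => (Finset.mem_filter.1 hy).2) (fun y => c x y)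
    (by
      intro b hb y _
      have := hc.equiv b x y
      have hbx : b • x = x := hA hb
      rwa [hbx] at this)
    0 (by
      intro y hy
      rw [Finset.mem_filter, Finset.mem_filter] at hy
      exact h2 x hx y hy.1.1)
    (fun b _ => smul_zero b)
  rw [e1, e2, hm, smul_zero, add_zero]

end Cfsg.Agent.H815.Lim
end

-- part: H729/Lim/CaseS
section
/-!
# S5242, [C4b]: case S (helper729)
-/

set_option autoImplicit false

namespace Cfsg.Agent.H729.Lim

open MulAction Cfsg.Agent.H539.Lim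

universe u v w

theorem to71 {G : Type*} [Group G] {D : Type*} [AddCommGroup D] [DistribMulAction G D] {a : G}
    {f : D →+ ZMod 2} {z : D} (h : Tv a f z) : Cfsg.Agent.H71.Lim.Tv a f z :=
  ⟨h.ne_one, h.sq, h.z_ne, h.two_z, h.f_ne, h.fz, h.act⟩

variable {G : Type u} [Group G] [Finite G] {Ω : Type v} [MulAction G Ω] [Finite Ω] {D : Type w} [AddCommGroup D]
  [DistribMulAction G D] [Finite D]

/-- case S (two transvections with the same functional in `G_x`) -/
theorem caseS {Ω₀ : Finset Ω} (h0 : Orb2 G Ω₀) {c : Ω → Ω → D} (hc : Coc2 G Ω₀ c)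
    (h2 : ∀ x ∈ Ω₀, ∀ y ∈ Ω₀, 2 • c x y = 0)
    (hs : ∀ x ∈ Ω₀, ∀ y ∈ Ω₀, stabilizer G x ⊓ stabilizer G y ∈ Qs G D → c x y = 0)
    (hfaith : ∀ x ∈ Ω₀, ∀ g ∈ stabilizer G x, (∀ d : D, g • d = d) → g = 1)
    {x : Ω} (hx : x ∈ Ω₀) {b d : G} {f : D →+ ZMod 2} {t t' : D} (hb : Tv b f t) (hd : Tv d f t') (hbd : b ≠ d)
    (hbx : b • x = x) (hdx : d • x = x) {a : G} {g : D →+ ZMod 2} {z : D} (ha : Tv a g z) (hax : a • x = x) :
    Vv Ω₀ c a x = 0 ∨ Vv Ω₀ c a x = z := by
  have hP : IsPGroup 2 (stabilizer G x) := by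
    obtain ⟨S, hS⟩ := h0.sylow x hx
    rw [← hS]
    exact S.isPGroup'
  exact caseS_aux hP (hfaith x hx)
    (fun hax A hA hA1 hAB hAg hcomm => Cfsg.Agent.H815.Lim.Vv_eq_zero h0 hc h2 hs hx hax hA hA1 hAB hAg hcomm)
    (fun ha hb hab hax hbx => Cfsg.Agent.H815.Lim.Vv_pair h0 hc h2 ha hb hab hx hax hbx)
    (fun ha hb hab hne hf => Cfsg.Agent.H71.Lim.bo_same_axis (to71 ha) (to71 hb) hab hne hf) hb hd hbd hbx hdx ha hax

end Cfsg.Agent.H729.Lim
end

-- part: H539/Lim/Conj
section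
/-! conjugation of offenders, norm-good subgroups, transvections -/

set_option autoImplicit false

namespace Cfsg.Agent.H539.Lim

open MulAction

universe u v w

variable {G : Type u} [Group G] {Ω : Type v} [MulAction G Ω] {D : Type w} [AddCommGroup D]
  [DistribMulAction G D]

theorem isUpper_Q0 : IsUpperSet (Q0 G D) := by
  rintro P Q hPQ ⟨A, hA, h1, h2⟩
  exact ⟨A, hA.trans hPQ, h1, h2⟩

theorem isUpper_Qs : IsUpperSet (Qs G D) := by
  rintro P Q hPQ ⟨A, hA, h1, h2⟩
  exact ⟨A, hA.trans hPQ, h1, h2⟩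

/-! ### conjugation -/

theorem card_DFix_cj [Finite D] (g : G) (A : Subgroup G) :
    Nat.card (DFix (cj g A) D) = Nat.card (DFix A D) := by
  refine Nat.card_congr ⟨fun d => ⟨g⁻¹ • d.1, ?_⟩, fun d => ⟨g • d.1, ?_⟩, ?_, ?_⟩
  · intro u hu
    have := d.2 (g * u * g⁻¹) ⟨u, hu, rfl⟩
    calc u • g⁻¹ • d.1 = g⁻¹ • ((g * u * g⁻¹) • d.1) := by
          rw [smul_smul, smul_smul]; congr 1; group
      _ = g⁻¹ • d.1 := by rw [this]
  · rintro u ⟨v, hv, rfl⟩
    have := d.2 v hv
    calc ((MulAut.conj g).toMonoidHom v) • g • d.1 = g • v • d.1 := by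
          rw [smul_smul, smul_smul]; congr 1; simp
      _ = g • d.1 := by rw [this]
  · intro d; apply Subtype.ext; simp
  · intro d; apply Subtype.ext; simp

theorem card_cj (g : G) (A : Subgroup G) : Nat.card (cj g A) = Nat.card A :=
  Nat.card_congr (A.equivMapOfInjective _ (MulAut.conj g).injective).toEquiv.symm

theorem cj_cj_inv (g : G) (A : Subgroup G) : cj g (cj g⁻¹ A) = A := by
  ext x
  simp only [cj, Subgroup.mem_map]
  constructor
  · rintro ⟨y, ⟨z, hz, rfl⟩, rfl⟩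
    simpa [mul_assoc] using hz
  · intro hx
    refine ⟨g⁻¹ * x * g, ⟨x, hx, by simp [MulAut.conj_apply]⟩, by simp [MulAut.conj_apply, mul_assoc]⟩

theorem bo_conj [Finite D] {A : Subgroup G} (h : BO D A) (g : G) : BO D (cj g A) := by
  refine ⟨?_, ?_⟩
  · rintro _ ⟨a, ha, rfl⟩ _ ⟨b, hb, rfl⟩
    rw [← map_mul, ← map_mul, h.1 a ha b hb]
  · intro B hB
    have hB' : cj g⁻¹ B ≤ A := by
      rintro _ ⟨b, hb, rfl⟩
      obtain ⟨a, ha, hab⟩ := hB hb
      rw [← hab]
      simpa [MulAut.conj_apply, mul_assoc] using ha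
    have h1 := h.2 _ hB'
    rw [card_cj, card_DFix_cj] at h1
    rw [card_cj, card_DFix_cj]
    exact h1

theorem cj_ne_bot {A : Subgroup G} (h : A ≠ ⊥) (g : G) : cj g A ≠ ⊥ := by
  intro h1
  apply h
  rw [← cj_cj_inv g⁻¹ A, inv_inv, h1]
  simp [cj]

theorem isInv_Q0 [Finite D] : IsInv (Q0 G D) := by
  rintro g P ⟨A, hA, h1, h2⟩
  exact ⟨cj g A, Subgroup.map_mono hA, cj_ne_bot h1 g, bo_conj h2 g⟩

theorem ngood_conj {p : ℕ} {A : Subgroup G} (h : NGood p D A) (g : G) : NGood p D (cj g A) := by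
  intro M hM hMi z hz hpz a ha haM
  obtain ⟨a', ha', rfl⟩ := ha
  have hM' : cj g⁻¹ M ≤ A := by
    rintro _ ⟨b, hb, rfl⟩
    obtain ⟨a, ha, hab⟩ := hM hb
    rw [← hab]
    simpa [MulAut.conj_apply, mul_assoc] using ha
  have hidx : (cj g⁻¹ M).relIndex A = p := by
    have h3 : (cj g (cj g⁻¹ M)).relIndex (cj g A) = (cj g⁻¹ M).relIndex A :=
      Subgroup.relIndex_map_map_of_injective _ _ (MulAut.conj g).injective
    rw [← h3, cj_cj_inv, hMi]
  have h4 := h (cj g⁻¹ M) hM' hidx (g⁻¹ • z) ?_ ?_ a' ha' ?_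
  · have h5 := congrArg (fun t => g • t) h4
    simp only [Finset.smul_sum] at h5
    calc ∑ i ∈ Finset.range p, ((MulAut.conj g).toMonoidHom a') ^ i • z
        = ∑ i ∈ Finset.range p, g • a' ^ i • g⁻¹ • z := by
          apply Finset.sum_congr rfl
          intro i _
          rw [smul_smul, smul_smul]
          congr 1
          have : ((MulAut.conj g).toMonoidHom a') ^ i = (MulAut.conj g).toMonoidHom (a' ^ i) := by
            rw [map_pow]
          rw [this]; simp [MulAut.conj_apply, mul_assoc]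
      _ = g • (p • g⁻¹ • z) := h5
      _ = p • z := by rw [smul_comm g p, smul_inv_smul]
  · rintro _ ⟨m, hm, rfl⟩
    have := hz m hm
    calc ((MulAut.conj g⁻¹).toMonoidHom m) • g⁻¹ • z = g⁻¹ • m • z := by
          rw [smul_smul, smul_smul]; congr 1; simp [MulAut.conj_apply, mul_assoc]
      _ = g⁻¹ • z := by rw [this]
  · intro a ha
    have := hpz ((MulAut.conj g).toMonoidHom a) ⟨a, ha, rfl⟩
    have h5 : p • g⁻¹ • z = g⁻¹ • p • z := smul_comm _ _ _
    rw [h5]
    calc a • g⁻¹ • p • z = g⁻¹ • ((MulAut.conj g).toMonoidHom a) • p • z := by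
          rw [smul_smul, smul_smul]; congr 1; simp [MulAut.conj_apply, mul_assoc]
      _ = g⁻¹ • p • z := by rw [this]
  · rintro ⟨m, hm, hma⟩
    apply haM
    rw [← hma]
    simpa [MulAut.conj_apply, mul_assoc] using hm

theorem isInv_Qs [Finite D] : IsInv (Qs G D) := by
  rintro g P ⟨A, hA, h1, h2, h3⟩
  exact ⟨cj g A, Subgroup.map_mono hA, cj_ne_bot h1 g, bo_conj h2 g, ngood_conj h3 g⟩

theorem tv_conj {a : G} {f : D →+ ZMod 2} {z : D} (h : Tv a f z) (g : G) :
    Tv (g * a * g⁻¹) (f.comp (DistribSMul.toAddMonoidHom D g⁻¹)) (g • z) where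
  ne_one := fun h1 => h.ne_one (by
    have := congrArg (fun t => g⁻¹ * t * g) h1
    simpa [mul_assoc] using this)
  sq := by
    calc g * a * g⁻¹ * (g * a * g⁻¹) = g * (a * a) * g⁻¹ := by group
      _ = 1 := by rw [h.sq]; group
  z_ne := fun h1 => h.z_ne (by
    have := congrArg (fun t => g⁻¹ • t) h1
    simpa using this)
  two_z := by rw [← smul_add, h.two_z, smul_zero]
  f_ne := fun h1 => h.f_ne (by
    ext d
    have := DFunLike.congr_fun h1 (g • d)
    simpa using this)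
  fz := by simpa using h.fz
  act := fun d => by
    have := h.act (g⁻¹ • d)
    calc (g * a * g⁻¹) • d = g • (a • g⁻¹ • d) := by rw [smul_smul, smul_smul]
      _ = g • (g⁻¹ • d + (f (g⁻¹ • d)).val • z) := by rw [this]
      _ = d + (f (g⁻¹ • d)).val • g • z := by
          rw [smul_add, smul_inv_smul, smul_comm g (f (g⁻¹ • d)).val z]
      _ = _ := rfl

theorem isUpper_Q1 : IsUpperSet (Q1 G D) := by
  rintro P Q hPQ ⟨a, ha, f, z, h⟩
  exact ⟨a, hPQ ha, f, z, h⟩

theorem isInv_Q1 : IsInv (Q1 G D) := by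
  rintro g P ⟨a, ha, f, z, h⟩
  refine ⟨g * a * g⁻¹, ⟨a, ha, by simp⟩, _, _, tv_conj h g⟩

end Cfsg.Agent.H539.Lim
end

-- part: H405/Lim/EvenKernel
section
/-!
# S5242, piece C2: the even kernel case of Claim T
-/

set_option autoImplicit false

namespace Cfsg.Agent.H405.Lim

open MulAction Cfsg.Agent.H539.Lim

universe u v w

variable {G : Type u} [Group G] [Finite G] {Ω : Type v} [MulAction G Ω] [Finite Ω] {D : Type w} [AddCommGroup D]
  [DistribMulAction G D] [Finite D]

omit [Finite G] [Finite D] in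
lemma DFix_eq_top {A : Subgroup G} (h : ∀ a ∈ A, ∀ d : D, a • d = d) : DFix A D = ⊤ := by
  ext d
  exact ⟨fun _ => AddSubgroup.mem_top d, fun _ u hu => h u hu d⟩

/-- an abelian subgroup acting trivially is a best offender -/
lemma bo_of_triv {A : Subgroup G} (hA : IsAb A) (h : ∀ a ∈ A, ∀ d : D, a • d = d) : BO D A := by
  refine ⟨hA, fun B hB => ?_⟩
  rw [DFix_eq_top h, DFix_eq_top (fun b hb => h b (hB hb))]
  exact Nat.mul_le_mul_right _ (Subgroup.card_le_of_le hB)

omit [Finite G] [Finite D] in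
/-- a subgroup acting trivially is norm-good -/
lemma ngood_of_triv {A : Subgroup G} (h : ∀ a ∈ A, ∀ d : D, a • d = d) : NGood 2 D A := by
  intro M _ _ z _ _ a ha _
  rw [Finset.sum_range_succ, Finset.sum_range_succ, Finset.sum_range_zero, zero_add, pow_zero, pow_one, one_smul,
    h a ha z, two_nsmul]

omit [Finite G] in
lemma isAb_zpowers (a : G) : IsAb (Subgroup.zpowers a) := by
  rintro _ ⟨i, rfl⟩ _ ⟨j, rfl⟩
  exact (Commute.refl a).zpow_zpow i j

omit [Finite G] [Finite D] in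
lemma triv_zpowers {a : G} (h : ∀ d : D, a • d = d) : ∀ b ∈ Subgroup.zpowers a, ∀ d : D, b • d = d := by
  intro b hb d
  have h1 : Subgroup.zpowers a ≤ MulAction.stabilizer G d := by
    rw [Subgroup.zpowers_le]
    exact h d
  exact h1 hb

/-- a transvection generates a best offender -/
lemma bo_of_tv {a : G} {f : D →+ ZMod 2} {z : D} (ha : Tv a f z) : BO D (Subgroup.zpowers a) := by
  have hord : orderOf a = 2 := orderOf_eq_prime (by rw [pow_two]; exact ha.sq) ha.ne_one
  have hcard : Nat.card (Subgroup.zpowers a) = 2 := by rw [Nat.card_zpowers, hord]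
  refine ⟨isAb_zpowers a, fun B hB => ?_⟩
  have hdvd : Nat.card B ∣ 2 := by
    rw [← hcard]
    exact Subgroup.card_dvd_of_le hB
  rcases (Nat.dvd_prime Nat.prime_two).1 hdvd with h1 | h1
  · -- `B = ⊥`
    rw [h1, hcard, one_mul]
    have h2 : DFix (Subgroup.zpowers a) D = f.ker := by
      ext d
      constructor
      · intro hd
        have h3 : a • d = d := hd a (Subgroup.mem_zpowers a)
        rw [ha.act] at h3
        have h4 : (f d).val • z = 0 := by simpa using h3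
        rw [AddMonoidHom.mem_ker]
        have h5 : (f d).val < 2 := ZMod.val_lt _
        rcases Nat.lt_or_ge (f d).val 1 with h6 | h6
        · have h7 : (f d).val = 0 := by omega
          exact (ZMod.val_eq_zero _).1 h7
        · have h7 : (f d).val = 1 := by omega
          rw [h7, one_smul] at h4
          exact absurd h4 ha.z_ne
      · intro hd u hu
        rw [AddMonoidHom.mem_ker] at hd
        have h1 : Subgroup.zpowers a ≤ MulAction.stabilizer G d := by
          rw [Subgroup.zpowers_le, MulAction.mem_stabilizer_iff, ha.act, hd]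
          simp
        exact h1 hu
    have h3 : Function.Surjective f := by
      obtain ⟨d, hd⟩ : ∃ d, f d ≠ 0 := by
        by_contra hcon
        push Not at hcon
        exact ha.f_ne (AddMonoidHom.ext hcon)
      intro t
      rcases eq_or_ne t 0 with rfl | ht
      · exact ⟨0, map_zero f⟩
      · refine ⟨d, ?_⟩
        revert hd ht
        generalize f d = s
        revert s t
        decide
    have h4 : Nat.card D = Nat.card f.ker * 2 := by
      have h5 := AddSubgroup.card_mul_index f.ker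
      rw [← h5, AddSubgroup.index_ker, AddMonoidHom.range_eq_top.2 h3]
      simp
    rw [h2]
    have h5 : Nat.card (DFix B D) ≤ Nat.card D :=
      Nat.card_le_card_of_injective (fun d : DFix B D => (d : D)) Subtype.val_injective
    omega
  · have h2 : B = Subgroup.zpowers a := by
      apply Subgroup.eq_of_le_of_card_ge hB
      rw [h1, hcard]
    rw [h2]

/-- a nontrivial normal subgroup of a `2`-group contains a central involution -/
lemma exists_central_invol {P : Subgroup G} (hP : IsPGroup 2 P) (K : Subgroup G) (hKP : K ≤ P)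
    (hK : ∀ g ∈ P, ∀ k ∈ K, g * k * g⁻¹ ∈ K) (hK1 : K ≠ ⊥) :
    ∃ t ∈ K, t ≠ 1 ∧ t * t = 1 ∧ ∀ g ∈ P, g * t = t * g := by
  -- `P` acts on `K` by conjugation
  let act : MulAction P K :=
    { smul := fun g k => ⟨(g : G) * k * (g : G)⁻¹, hK g g.2 k k.2⟩
      one_smul := fun k => Subtype.ext (by
        show (1 : G) * k * (1 : G)⁻¹ = k
        simp)
      mul_smul := fun g h k => Subtype.ext (by
        show ((g : G) * h) * k * ((g : G) * h)⁻¹ = (g : G) * ((h : G) * k * (h : G)⁻¹) * (g : G)⁻¹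
        group) }
  letI := act
  have hact : ∀ (g : P) (k : K), ((g • k : K) : G) = (g : G) * k * (g : G)⁻¹ := fun _ _ => rfl
  haveI : Fact (Nat.Prime 2) := ⟨Nat.prime_two⟩
  have hKp : IsPGroup 2 K := hP.to_le hKP
  haveI : Nontrivial K := K.bot_or_nontrivial.resolve_left hK1
  have hdvd : 2 ∣ Nat.card K := by
    obtain ⟨n, hn, hc⟩ := hKp.nontrivial_iff_card.1 inferInstance
    rw [hc]
    exact dvd_pow_self 2 (by omega)
  have h1 : (1 : K) ∈ MulAction.fixedPoints P K := by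
    intro g
    apply Subtype.ext
    rw [hact]
    simp
  obtain ⟨k, hk, hk1⟩ := hP.exists_fixed_point_of_prime_dvd_card_of_fixed_point K hdvd h1
  have hkc : ∀ g ∈ P, g * (k : G) = k * g := by
    intro g hg
    have h2 := congrArg Subtype.val (hk ⟨g, hg⟩)
    rw [hact] at h2
    simp only at h2
    rw [mul_inv_eq_iff_eq_mul] at h2
    exact h2
  have hk1' : (k : G) ≠ 1 := fun h => hk1 (Subtype.ext h).symm
  -- an involution in `⟨k⟩`
  obtain ⟨n, hn⟩ := hKp k
  have hn' : (k : G) ^ (2 ^ n) = 1 := by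
    have := congrArg Subtype.val hn
    simpa using this
  have hex : ∃ m, (k : G) ^ (2 ^ m) = 1 := ⟨n, hn'⟩
  classical
  let m := Nat.find hex
  have hm : (k : G) ^ (2 ^ m) = 1 := Nat.find_spec hex
  have hm0 : m ≠ 0 := by
    intro h
    rw [h] at hm
    simp at hm
    exact hk1' (by simpa using hm)
  obtain ⟨m', hm'⟩ := Nat.exists_eq_succ_of_ne_zero hm0
  refine ⟨(k : G) ^ (2 ^ m'), K.pow_mem k.2 _, ?_, ?_, ?_⟩
  · intro h
    exact Nat.find_min hex (show m' < m by omega) h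
  · rw [← pow_add, ← two_mul, ← pow_succ']
    rw [hm'] at hm
    exact hm
  · intro g hg
    have : Commute g (k : G) := hkc g hg
    exact this.pow_right _

theorem evenKernel (hD : IsPTors 2 D) {Ω₀ : Finset Ω} (h0 : Orb2 G Ω₀) {c : Ω → Ω → D} (hc : Coc2 G Ω₀ c)
    (hs : ∀ x ∈ Ω₀, ∀ y ∈ Ω₀, stabilizer G x ⊓ stabilizer G y ∈ Qs G D → c x y = 0)
    (hk : ∃ x ∈ Ω₀, ∃ g ∈ stabilizer G x, g ≠ 1 ∧ ∀ d : D, g • d = d) :
    ∀ x ∈ Ω₀, ∀ y ∈ Ω₀, stabilizer G x ⊓ stabilizer G y ∈ Q1 G D → c x y = 0 := by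
  classical
  -- the central involution in every stabilizer
  have hz : ∀ x ∈ Ω₀, ∃ t ∈ stabilizer G x, t ≠ 1 ∧ t * t = 1 ∧ (∀ d : D, t • d = d) ∧
      ∀ g ∈ stabilizer G x, g * t = t * g := by
    obtain ⟨x₀, hx₀, g, hg, hg1, hgD⟩ := hk
    obtain ⟨S, hS⟩ := h0.sylow x₀ hx₀
    have hP : IsPGroup 2 (stabilizer G x₀) := by
      rw [← hS]
      exact S.2
    let K : Subgroup G :=
      { carrier := {k | k ∈ stabilizer G x₀ ∧ ∀ d : D, k • d = d}
        one_mem' := ⟨one_mem _, fun d => one_smul G d⟩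
        mul_mem' := fun {a b} ha hb => ⟨mul_mem ha.1 hb.1, fun d => by rw [mul_smul, hb.2, ha.2]⟩
        inv_mem' := fun {a} ha => ⟨inv_mem ha.1, fun d => by rw [inv_smul_eq_iff, ha.2]⟩ }
    have hKmem : ∀ k, k ∈ K ↔ k ∈ stabilizer G x₀ ∧ ∀ d : D, k • d = d := fun _ => Iff.rfl
    obtain ⟨t, htK, ht1, ht2, htc⟩ := exists_central_invol hP K (fun k hk => hk.1) (by
      intro u hu k hk
      refine ⟨mul_mem (mul_mem hu hk.1) (inv_mem hu), fun d => ?_⟩
      rw [mul_smul, mul_smul, hk.2, smul_inv_smul]) (by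
      intro h
      have : g ∈ K := ⟨hg, hgD⟩
      rw [h, Subgroup.mem_bot] at this
      exact hg1 this)
    intro x hx
    obtain ⟨h, rfl⟩ := h0.trans x₀ hx₀ x hx
    refine ⟨h * t * h⁻¹, ?_, ?_, ?_, ?_, ?_⟩
    · rw [mem_stabilizer_iff, mul_smul, mul_smul, inv_smul_smul, mem_stabilizer_iff.1 htK.1]
    · intro h1
      apply ht1
      have h2 : t = h⁻¹ * (h * t * h⁻¹) * h := by group
      rw [h2, h1]
      group
    · calc h * t * h⁻¹ * (h * t * h⁻¹) = h * (t * t) * h⁻¹ := by group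
        _ = 1 := by rw [ht2]; group
    · intro d
      rw [mul_smul, mul_smul, htK.2, smul_inv_smul]
    · intro g' hg'
      have h1 : h⁻¹ * g' * h ∈ stabilizer G x₀ := by
        rw [mem_stabilizer_iff, mul_smul, mul_smul, mem_stabilizer_iff.1 hg', inv_smul_smul]
      have h2 := htc _ h1
      calc g' * (h * t * h⁻¹) = h * (h⁻¹ * g' * h * t) * h⁻¹ := by group
        _ = h * (t * (h⁻¹ * g' * h)) * h⁻¹ := by rw [h2]
        _ = h * t * h⁻¹ * g' := by group
  -- divisibility by all powers of two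
  have hmain : ∀ k : ℕ, ∀ x ∈ Ω₀, ∀ y ∈ Ω₀, stabilizer G x ⊓ stabilizer G y ∈ Q1 G D →
      ∃ d : D, c x y = (2 ^ k : ℕ) • d := by
    intro k
    induction k with
    | zero =>
      intro x _ y _ _
      exact ⟨c x y, by simp⟩
    | succ k ih =>
      intro x hx x' hx' hQ
      obtain ⟨a, ha, f, z, hT⟩ := hQ
      obtain ⟨hax, hax'⟩ := Subgroup.mem_inf.1 ha
      let N : AddSubgroup D := (nsmulAddMonoidHom (α := D) (2 ^ (k + 1))).range
      have hN : ∀ d : D, (2 ^ (k + 1) : ℕ) • d ∈ N := fun d => ⟨d, rfl⟩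
      -- the sums over the fixed points of `a`
      have hsum : ∀ x ∈ Ω₀, a ∈ stabilizer G x →
          ∑ y ∈ Ω₀.filter (fun y => a • y = y), c x y ∈ N := by
        intro x hx hax
        obtain ⟨t, ht, ht1, ht2, htD, htc⟩ := hz x hx
        rw [← QuotientAddGroup.eq_zero_iff, ← QuotientAddGroup.mk'_apply, map_sum]
        refine Finset.sum_involution (fun y _ => t • y) ?_ ?_ ?_ ?_
        · intro y hy
          obtain ⟨hy0, hya⟩ := Finset.mem_filter.1 hy
          have h1 : c x (t • y) = c x y := by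
            have h2 := hc.equiv t x y
            rw [mem_stabilizer_iff.1 ht, htD] at h2
            exact h2
          obtain ⟨d, hd⟩ := ih x hx y hy0 ⟨a, Subgroup.mem_inf.2 ⟨hax, hya⟩, f, z, hT⟩
          rw [h1, ← map_add, ← two_nsmul, hd, smul_smul, ← pow_succ', QuotientAddGroup.mk'_apply,
            QuotientAddGroup.eq_zero_iff]
          exact hN d
        · intro y hy hne hty
          apply hne
          obtain ⟨hy0, hya⟩ := Finset.mem_filter.1 hy
          have h1 : c x y = 0 := by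
            apply hs x hx y hy0
            refine ⟨Subgroup.zpowers t, ?_, ?_, bo_of_triv (isAb_zpowers t) (triv_zpowers htD),
              ngood_of_triv (triv_zpowers htD)⟩
            · rw [Subgroup.zpowers_le]
              exact Subgroup.mem_inf.2 ⟨ht, hty⟩
            · rw [Ne, Subgroup.zpowers_eq_bot]
              exact ht1
          rw [h1, map_zero]
        · intro y hy
          obtain ⟨hy0, hya⟩ := Finset.mem_filter.1 hy
          refine Finset.mem_filter.2 ⟨h0.smul_mem t y hy0, ?_⟩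
          rw [smul_smul, htc a hax, mul_smul, hya]
        · intro y hy
          rw [smul_smul, ht2, one_smul]
      have h1 := hsum x hx hax
      have h2 := hsum x' hx' hax'
      -- the number of fixed points is odd
      have hodd : Odd (Ω₀.filter (fun y => a • y = y)).card := by
        have h3 : (((Ω₀.filter (fun y => ¬ a • y = y)).card : ℕ) : ZMod 2) = 0 := by
          rw [Finset.card_eq_sum_ones, Nat.cast_sum]
          refine Finset.sum_involution (fun y _ => a • y) ?_ ?_ ?_ ?_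
          · intro y hy
            decide
          · intro y hy _
            exact (Finset.mem_filter.1 hy).2
          · intro y hy
            obtain ⟨hy0, hya⟩ := Finset.mem_filter.1 hy
            refine Finset.mem_filter.2 ⟨h0.smul_mem a y hy0, ?_⟩
            intro h
            exact hya (MulAction.injective a h)
          · intro y hy
            rw [smul_smul, hT.sq, one_smul]
        rw [ZMod.natCast_eq_zero_iff_even] at h3
        have h4 := Finset.card_filter_add_card_filter_not (s := Ω₀) (fun y => a • y = y)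
        have h5 := h0.odd
        rw [← h4] at h5
        exact (Nat.odd_add.1 h5).2 h3
      have h4 : (Ω₀.filter (fun y => a • y = y)).card • c x x' ∈ N := by
        have h5 : ∑ y ∈ Ω₀.filter (fun y => a • y = y), c x y =
            ∑ y ∈ Ω₀.filter (fun y => a • y = y), (c x x' + c x' y) := by
          apply Finset.sum_congr rfl
          intro y hy
          obtain ⟨hy0, hya⟩ := Finset.mem_filter.1 hy
          apply hc.coc x hx x' hx' y hy0
          refine ⟨Subgroup.zpowers a, ?_, ?_, bo_of_tv hT⟩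
          · rw [Subgroup.zpowers_le]
            exact Subgroup.mem_inf.2 ⟨ha, hya⟩
          · rw [Ne, Subgroup.zpowers_eq_bot]
            exact hT.ne_one
        rw [Finset.sum_add_distrib, Finset.sum_const] at h5
        have h6 : (Ω₀.filter (fun y => a • y = y)).card • c x x' =
            ∑ y ∈ Ω₀.filter (fun y => a • y = y), c x y - ∑ y ∈ Ω₀.filter (fun y => a • y = y), c x' y := by
          rw [h5, add_sub_cancel_right]
        rw [h6]
        exact N.sub_mem h1 h2
      have hmem : c x x' ∈ N := by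
        have hcop : Nat.Coprime (Ω₀.filter (fun y => a • y = y)).card (2 ^ (k + 1)) :=
          Nat.Coprime.pow_right _ (Nat.coprime_two_right.2 hodd)
        have hbez := Nat.gcd_eq_gcd_ab (Ω₀.filter (fun y => a • y = y)).card (2 ^ (k + 1))
        rw [hcop.gcd_eq_one] at hbez
        generalize (Ω₀.filter (fun y => a • y = y)).card = n at h4 hbez
        have h5 : c x x' = (n.gcdA (2 ^ (k + 1))) • (n • c x x') +
            (n.gcdB (2 ^ (k + 1))) • ((2 ^ (k + 1) : ℕ) • c x x') := by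
          rw [← natCast_zsmul (c x x') n, ← natCast_zsmul (c x x') (2 ^ (k + 1)), smul_smul, smul_smul, ← add_smul,
            mul_comm _ (n : ℤ), mul_comm _ (((2 ^ (k + 1) : ℕ)) : ℤ), ← hbez]
          simp
        rw [h5]
        exact N.add_mem (N.zsmul_mem h4 _) (N.zsmul_mem (hN _) _)
      obtain ⟨d, hd⟩ := hmem
      exact ⟨d, hd.symm⟩
  -- `2 ^ k` kills `D` for large `k`
  have hexp : ∃ k : ℕ, ∀ d : D, (2 ^ k : ℕ) • d = 0 := by
    haveI := Fintype.ofFinite D
    choose kd hkd using hD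
    refine ⟨Finset.univ.sup kd, fun d => ?_⟩
    have h1 : kd d ≤ Finset.univ.sup kd := Finset.le_sup (Finset.mem_univ d)
    obtain ⟨r, hr⟩ := Nat.exists_eq_add_of_le h1
    rw [hr, pow_add, mul_comm, mul_smul, hkd, smul_zero]
  intro x hx y hy hQ
  obtain ⟨k, hk⟩ := hexp
  obtain ⟨d, hd⟩ := hmain k x hx y hy hQ
  rw [hd, hk]

end Cfsg.Agent.H405.Lim
end

-- part: H521/Lim/CaseN
section
/-!
# S5242, piece C4c: the vertex function in case N (helper521)
-/

set_option autoImplicit false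

namespace Cfsg.Agent.H521.Lim

open MulAction Cfsg.Agent.H539.Lim

universe u v w

/-! ### Sums over pairs -/

/-- A fixed point free involution `σ` of `T` such that the sum over each pair is in `S`: the sum over `T` is in `S`. -/
theorem sum_pairs_mem {ι E : Type*} [DecidableEq ι] [AddCommGroup E] (S : AddSubgroup E) (h : ι → E) (σ : ι → ι)
    (n : ℕ) : ∀ T : Finset ι, T.card = n → (∀ y ∈ T, σ y ∈ T) → (∀ y ∈ T, σ (σ y) = y) → (∀ y ∈ T, σ y ≠ y) →
      (∀ y ∈ T, h y + h (σ y) ∈ S) → ∑ y ∈ T, h y ∈ S := by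
  induction n using Nat.strong_induction_on with | _ n ih => ?_
  intro T hT h1 h2 h3 h4
  rcases T.eq_empty_or_nonempty with rfl | ⟨y, hy⟩
  · simp
  have hne := h3 y hy
  have hy' : σ y ∈ T.erase y := Finset.mem_erase.2 ⟨hne, h1 y hy⟩
  rw [← Finset.add_sum_erase T h hy, ← Finset.add_sum_erase (T.erase y) h hy', ← add_assoc]
  refine S.add_mem (h4 y hy) ?_
  have hmem : ∀ u, u ∈ (T.erase y).erase (σ y) ↔ u ≠ σ y ∧ u ≠ y ∧ u ∈ T := by
    intro u
    rw [Finset.mem_erase, Finset.mem_erase]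
  refine ih _ ?_ ((T.erase y).erase (σ y)) rfl ?_ ?_ ?_ ?_
  · rw [← hT]
    exact Finset.card_lt_card (Finset.ssubset_of_subset_of_ssubset (Finset.erase_subset _ _)
      (Finset.erase_ssubset hy))
  · intro u hu
    obtain ⟨e1, e2, e3⟩ := (hmem u).1 hu
    refine (hmem _).2 ⟨?_, ?_, h1 u e3⟩
    · intro h0
      apply e2
      rw [← h2 u e3, h0, h2 y hy]
    · intro h0
      apply e1
      rw [← h2 u e3, h0]
  · intro u hu
    exact h2 u ((hmem u).1 hu).2.2
  · intro u hu
    exact h3 u ((hmem u).1 hu).2.2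
  · intro u hu
    exact h4 u ((hmem u).1 hu).2.2

/-- A fixed point free involution `σ` of `T` such that the sum over each pair is `k`. -/
theorem sum_pairs_const {ι E : Type*} [DecidableEq ι] [AddCommGroup E] (k : E) (h : ι → E) (σ : ι → ι)
    (n : ℕ) : ∀ T : Finset ι, T.card = n → (∀ y ∈ T, σ y ∈ T) → (∀ y ∈ T, σ (σ y) = y) → (∀ y ∈ T, σ y ≠ y) →
      (∀ y ∈ T, h y + h (σ y) = k) → ∃ m : ℕ, T.card = 2 * m ∧ ∑ y ∈ T, h y = m • k := by
  induction n using Nat.strong_induction_on with | _ n ih => ?_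
  intro T hT h1 h2 h3 h4
  rcases T.eq_empty_or_nonempty with rfl | ⟨y, hy⟩
  · exact ⟨0, by simp, by simp⟩
  have hne := h3 y hy
  have hy' : σ y ∈ T.erase y := Finset.mem_erase.2 ⟨hne, h1 y hy⟩
  have hmem : ∀ u, u ∈ (T.erase y).erase (σ y) ↔ u ≠ σ y ∧ u ≠ y ∧ u ∈ T := by
    intro u
    rw [Finset.mem_erase, Finset.mem_erase]
  obtain ⟨m, hm, hm'⟩ := ih ((T.erase y).erase (σ y)).card (by
      rw [← hT]
      exact Finset.card_lt_card (Finset.ssubset_of_subset_of_ssubset (Finset.erase_subset _ _)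
        (Finset.erase_ssubset hy))) ((T.erase y).erase (σ y)) rfl
    (by
      intro u hu
      obtain ⟨e1, e2, e3⟩ := (hmem u).1 hu
      refine (hmem _).2 ⟨?_, ?_, h1 u e3⟩
      · intro h0
        apply e2
        rw [← h2 u e3, h0, h2 y hy]
      · intro h0
        apply e1
        rw [← h2 u e3, h0])
    (fun u hu => h2 u ((hmem u).1 hu).2.2) (fun u hu => h3 u ((hmem u).1 hu).2.2)
    (fun u hu => h4 u ((hmem u).1 hu).2.2)
  refine ⟨m + 1, ?_, ?_⟩
  · have c1 := Finset.card_erase_add_one hy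
    have c2 := Finset.card_erase_add_one hy'
    omega
  · rw [← Finset.add_sum_erase T h hy, ← Finset.add_sum_erase (T.erase y) h hy', ← add_assoc, h4 y hy, hm',
      add_smul, one_smul, add_comm]

/-! ### Transvections -/

variable {G : Type u} [Group G] {D : Type w} [AddCommGroup D] [DistribMulAction G D]

theorem zmod2_cases (t : ZMod 2) : t = 0 ∨ t = 1 := by
  revert t; decide

/-- the action of a transvection -/
theorem Tv_act {a : G} {f : D →+ ZMod 2} {z : D} (ha : Tv a f z) (d : D) :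
    (f d = 0 ∧ a • d = d) ∨ (f d = 1 ∧ a • d = d + z) := by
  have h1 := ha.act d
  rcases zmod2_cases (f d) with h | h
  · left
    rw [h] at h1
    exact ⟨h, by simpa using h1⟩
  · right
    rw [h] at h1
    have h2 : (1 : ZMod 2).val = 1 := rfl
    rw [h2, one_smul] at h1
    exact ⟨h, h1⟩

theorem Tv_sub_mem {a : G} {f : D →+ ZMod 2} {z : D} (ha : Tv a f z) (d : D) :
    a • d - d = 0 ∨ a • d - d = z := by
  rcases Tv_act ha d with ⟨-, h⟩ | ⟨-, h⟩
  · left; rw [h, sub_self]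
  · right; rw [h, add_sub_cancel_left]

theorem Tv_conj {a : G} {f : D →+ ZMod 2} {z : D} (ha : Tv a f z) (g : G) :
    Tv (g * a * g⁻¹) (f.comp (DistribSMul.toAddMonoidHom D g⁻¹)) (g • z) := by
  refine ⟨?_, ?_, ?_, ?_, ?_, ?_, ?_⟩
  · intro h
    apply ha.ne_one
    have : a = g⁻¹ * (g * a * g⁻¹) * g := by group
    rw [this, h]; group
  · have : g * a * g⁻¹ * (g * a * g⁻¹) = g * (a * a) * g⁻¹ := by group
    rw [this, ha.sq]; group
  · intro h
    apply ha.z_ne
    have : z = g⁻¹ • g • z := by rw [inv_smul_smul]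
    rw [this, h, smul_zero]
  · rw [← smul_add, ha.two_z, smul_zero]
  · intro h
    apply ha.f_ne
    ext d
    have := DFunLike.congr_fun h (g • d)
    simpa using this
  · show f (g⁻¹ • g • z) = 0
    rw [inv_smul_smul, ha.fz]
  · intro d
    show (g * a * g⁻¹) • d = d + (f (g⁻¹ • d)).val • g • z
    rw [mul_smul, mul_smul, ha.act (g⁻¹ • d), smul_add, smul_inv_smul, smul_comm]
    


/-- In a 2-group without two transvections with the same functional, every functional vanishes on every centre. -/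
theorem functional_centre {P : Subgroup G} (hP : IsPGroup 2 P)
    (hN : ∀ a ∈ P, ∀ b ∈ P, ∀ (f : D →+ ZMod 2) (z t : D), Tv a f z → Tv b f t → a = b)
    {a b : G} (haP : a ∈ P) (hbP : b ∈ P) {f g : D →+ ZMod 2} {z t : D} (ha : Tv a f z) (hb : Tv b g t) :
    f t = 0 := by
  by_contra hft
  have hft1 : f t = 1 := (zmod2_cases (f t)).resolve_left hft
  have hainv : a⁻¹ = a := inv_eq_of_mul_eq_one_left ha.sq
  have hbinv : b⁻¹ = b := inv_eq_of_mul_eq_one_left hb.sq
  have h1 := Tv_conj hb a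
  have h2 := Tv_conj ha b
  have hPa : a * b * a⁻¹ ∈ P := P.mul_mem (P.mul_mem haP hbP) (P.inv_mem haP)
  have hPb : b * a * b⁻¹ ∈ P := P.mul_mem (P.mul_mem hbP haP) (P.inv_mem hbP)
  have ht2 : a • t = t + z := by
    rcases Tv_act ha t with ⟨h, -⟩ | ⟨-, h⟩
    · exact absurd h hft
    · exact h
  rcases zmod2_cases (g z) with hgz | hgz
  · -- `g (a⁻¹ d) = g d`
    have e1 : g.comp (DistribSMul.toAddMonoidHom D a⁻¹) = g := by
      ext d
      show g (a⁻¹ • d) = g d
      rw [hainv]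
      rcases Tv_act ha d with ⟨-, h⟩ | ⟨-, h⟩
      · rw [h]
      · rw [h, map_add, hgz, add_zero]
    rw [e1] at h1
    have e2 := hN _ hPa _ hbP g _ _ h1 hb
    obtain ⟨d, hd⟩ : ∃ d, g d = 1 := by
      by_contra hcon
      push Not at hcon
      apply hb.f_ne
      ext d
      exact (zmod2_cases (g d)).resolve_right (hcon d)
    have e3 := h1.act d
    rw [e2, hb.act d, hd] at e3
    have h2 : (1 : ZMod 2).val = 1 := rfl
    rw [h2, one_smul, one_smul, ht2] at e3
    apply ha.z_ne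
    have e4 := add_left_cancel e3
    exact (left_eq_add.1 e4)
  · have e1 : g.comp (DistribSMul.toAddMonoidHom D a⁻¹) = f.comp (DistribSMul.toAddMonoidHom D b⁻¹) := by
      ext d
      show g (a⁻¹ • d) = f (b⁻¹ • d)
      rw [hainv, hbinv]
      rcases Tv_act ha d with ⟨h3, h⟩ | ⟨h3, h⟩ <;> rcases Tv_act hb d with ⟨h5, h'⟩ | ⟨h5, h'⟩
      · rw [h, h', h3, h5]
      · rw [h, h', map_add, h3, h5, hft1]; rfl
      · rw [h, h', map_add, h3, h5, hgz]; rfl
      · rw [h, h', map_add, map_add, h3, h5, hft1, hgz]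
    rw [e1] at h1
    have e2 := hN _ hPa _ hPb _ _ _ h1 h2
    rw [hainv, hbinv] at e2
    have e3 : (a * b) ^ 3 = 1 := by
      have : (a * b) ^ 3 = (a * b * a) * (b * a * b) := by
        rw [pow_succ, pow_two]; group
      rw [this, ← e2]
      have : a * b * a * (a * b * a) = a * b * (a * a) * b * a := by group
      rw [this, ha.sq]
      have : a * b * 1 * b * a = a * (b * b) * a := by group
      rw [this, hb.sq, mul_one, ha.sq]
    obtain ⟨k, hk⟩ := hP ⟨a * b, P.mul_mem haP hbP⟩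
    have hk' : (a * b) ^ 2 ^ k = 1 := congrArg Subtype.val hk
    have e4 : orderOf (a * b) ∣ 1 := by
      have h5 : Nat.Coprime 3 (2 ^ k) := Nat.Coprime.pow_right k (by norm_num)
      rw [← Nat.Coprime.gcd_eq_one h5]
      exact Nat.dvd_gcd (orderOf_dvd_of_pow_eq_one e3) (orderOf_dvd_of_pow_eq_one hk')
    have e5 : a * b = 1 := orderOf_eq_one_iff.1 (Nat.dvd_one.1 e4)
    have e6 : a = b := by
      rw [← hbinv]; exact eq_inv_of_mul_eq_one_left e5
    -- `a t = t + z` and `b t = t`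
    rcases Tv_act hb t with ⟨-, h⟩ | ⟨h, -⟩
    · rw [← e6, ht2] at h
      exact ha.z_ne (left_eq_add.1 h.symm)
    · rw [hb.fz] at h
      exact absurd h (by decide)


/-! ### The subgroup generated by the transvections -/

section W

variable {Ω : Type v} [MulAction G Ω]

theorem Wt_le (x : Ω) : Wt G D x ≤ stabilizer G x := by
  rw [Wt, Subgroup.closure_le]
  rintro a ⟨ha, -⟩
  exact ha

theorem mem_Wt {x : Ω} {a : G} (hax : a • x = x) {f : D →+ ZMod 2} {z : D} (ha : Tv a f z) : a ∈ Wt G D x :=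
  Subgroup.subset_closure ⟨hax, f, z, ha⟩

variable {x : Ω} (hP : IsPGroup 2 (stabilizer G x))
  (hfaith : ∀ g ∈ stabilizer G x, (∀ d : D, g • d = d) → g = 1)
  (hN : ∀ a ∈ stabilizer G x, ∀ b ∈ stabilizer G x, ∀ (f : D →+ ZMod 2) (z t : D), Tv a f z → Tv b f t → a = b)

include hP hN in
theorem fix_sub {w : G} (hw : w ∈ Wt G D x) : ∀ a ∈ stabilizer G x, ∀ (f : D →+ ZMod 2) (z : D), Tv a f z →
    ∀ d : D, a • (w • d - d) = w • d - d := by
  rw [Wt] at hw
  induction hw using Subgroup.closure_induction with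
  | mem b hb =>
    obtain ⟨hbx, g, t, hb⟩ := hb
    intro a hax f z ha d
    rcases Tv_sub_mem hb d with h | h
    · rw [h, smul_zero]
    · rw [h]
      rcases Tv_act ha t with ⟨-, h1⟩ | ⟨h1, -⟩
      · exact h1
      · rw [functional_centre hP hN hax hbx ha hb] at h1
        exact absurd h1 (by decide)
  | one => intro a _ f z _ d; simp
  | mul u v _ _ ih1 ih2 =>
    intro a hax f z ha d
    have : (u * v) • d - d = (u • (v • d) - v • d) + (v • d - d) := by rw [mul_smul]; abel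
    rw [this, smul_add, ih1 a hax f z ha, ih2 a hax f z ha]
  | inv u _ ih =>
    intro a hax f z ha d
    have : u⁻¹ • d - d = -(u • (u⁻¹ • d) - u⁻¹ • d) := by rw [smul_inv_smul]; abel
    rw [this, smul_neg, ih a hax f z ha]

include hP hN in
theorem fix_sub' {w w' : G} (hw : w ∈ Wt G D x) (hw' : w' ∈ Wt G D x) (d : D) :
    w' • (w • d - d) = w • d - d := by
  have : Wt G D x ≤ stabilizer G (w • d - d) := by
    conv_lhs => rw [Wt]
    rw [Subgroup.closure_le]
    rintro a ⟨hax, f, z, ha⟩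
    exact fix_sub hP hN hw a hax f z ha d
  exact this hw'

include hP hfaith hN in
theorem W_comm {w w' : G} (hw : w ∈ Wt G D x) (hw' : w' ∈ Wt G D x) : w * w' = w' * w := by
  have h1 : ∀ {w w' : G}, w ∈ Wt G D x → w' ∈ Wt G D x → ∀ d : D, (w * w') • d = (w' • d - d) + w • d := by
    intro w w' hw hw' d
    rw [mul_smul]
    have : w' • d = (w' • d - d) + d := by abel
    conv_lhs => rw [this, smul_add, fix_sub' hP hN hw' hw]
  have h2 : (w * w') * (w' * w)⁻¹ = 1 := by
    apply hfaith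
    · exact Wt_le x ((Wt G D x).mul_mem ((Wt G D x).mul_mem hw hw')
        ((Wt G D x).inv_mem ((Wt G D x).mul_mem hw' hw)))
    · intro d
      rw [mul_smul]
      have h3 : (w * w') • (w' * w)⁻¹ • d = (w' * w) • (w' * w)⁻¹ • d := by
        rw [h1 hw hw', h1 hw' hw]; abel
      rw [h3, smul_inv_smul]
  exact mul_inv_eq_one.1 h2

theorem relIndex_eq_ncard (W : Subgroup G) (y : Ω) :
    (stabilizer G y).relIndex W = (orbit W y).ncard := by
  rw [← MulAction.index_stabilizer, Subgroup.relIndex]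
  congr 1

include hP hfaith hN in
/-- The sum over a `W`-invariant set of points whose `W`-orbits have more than two elements. -/
theorem sum_large [Finite G] {Ω₀ : Finset Ω} {c : Ω → Ω → D} (hc : ∀ (g : G) x y, c (g • x) (g • y) = g • c x y)
    (h2 : ∀ y ∈ Ω₀, 2 • c x y = 0) (n : ℕ) : ∀ Z : Finset Ω, Z.card = n → Z ⊆ Ω₀ →
      (∀ w ∈ Wt G D x, ∀ y ∈ Z, w • y ∈ Z) → (∀ y ∈ Z, 2 < (stabilizer G y).relIndex (Wt G D x)) →
      ∑ y ∈ Z, c x y = 0 := by
  classical
  induction n using Nat.strong_induction_on with | _ n ih => ?_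
  intro Z hZ hZ0 hinv hrel
  rcases Z.eq_empty_or_nonempty with rfl | ⟨y, hy⟩
  · simp
  set O : Finset Ω := Z.filter (fun y' => y' ∈ orbit (Wt G D x) y) with hO
  have hsplit : ∑ y' ∈ Z, c x y' = ∑ y' ∈ O, c x y' +
      ∑ y' ∈ Z.filter (fun y' => ¬ y' ∈ orbit (Wt G D x) y), c x y' :=
    (Finset.sum_filter_add_sum_filter_not _ _ _).symm
  have hrest : ∑ y' ∈ Z.filter (fun y' => ¬ y' ∈ orbit (Wt G D x) y), c x y' = 0 := by
    refine ih (Z.filter (fun y' => ¬ y' ∈ orbit (Wt G D x) y)).card ?_ _ rfl ?_ ?_ ?_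
    · rw [← hZ]
      refine Finset.card_lt_card (Finset.filter_ssubset.2 ⟨y, hy, ?_⟩)
      simp
    · exact (Finset.filter_subset _ _).trans hZ0
    · intro w hw y' hy'
      rw [Finset.mem_filter] at hy' ⊢
      refine ⟨hinv w hw y' hy'.1, fun h => hy'.2 ?_⟩
      obtain ⟨v, hv⟩ := h
      refine ⟨⟨w, hw⟩⁻¹ * v, ?_⟩
      have hv' : (v : G) • y = w • y' := hv
      show (w⁻¹ * (v : G)) • y = y'
      rw [mul_smul, hv', inv_smul_smul]
    · intro y' hy'
      exact hrel y' (Finset.mem_filter.1 hy').1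
  rw [hsplit, hrest, add_zero]
  -- a transvection not fixing `y`
  obtain ⟨a, hax, f, z, ha, hay⟩ : ∃ a ∈ stabilizer G x, ∃ (f : D →+ ZMod 2) (z : D), Tv a f z ∧ a • y ≠ y := by
    by_contra hcon
    push Not at hcon
    have : Wt G D x ≤ stabilizer G y := by
      rw [Wt, Subgroup.closure_le]
      rintro a ⟨hax, f, z, ha⟩
      exact hcon a hax f z ha
    have h1 := hrel y hy
    rw [Subgroup.relIndex_eq_one.2 this] at h1
    omega
  have haW : a ∈ Wt G D x := mem_Wt hax ha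
  have hval : ∀ w ∈ Wt G D x, c x (w • y) = w • c x y := by
    intro w hw
    have h1 := hc w x y
    have h3 : w • x = x := Wt_le x hw
    rwa [h3] at h1
  obtain ⟨m, hm, hs⟩ := sum_pairs_const (a • c x y - c x y) (fun y' => c x y') (fun y' => a • y') O.card O rfl
    (by
      intro y' hy'
      rw [hO, Finset.mem_filter] at hy' ⊢
      obtain ⟨hy1, v, hv⟩ := hy'
      refine ⟨hinv a haW y' hy1, ⟨a, haW⟩ * v, ?_⟩
      have hv' : (v : G) • y = y' := hv
      show (a * (v : G)) • y = a • y'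
      rw [mul_smul, hv'])
    (by
      intro y' _
      show a • a • y' = y'
      rw [← mul_smul, ha.sq, one_smul])
    (by
      intro y' hy' h0
      obtain ⟨hy1, v, hv⟩ := Finset.mem_filter.1 hy'
      have hv' : (v : G) • y = y' := hv
      have h0' : a • y' = y' := h0
      apply hay
      rw [← hv', ← mul_smul, W_comm hP hfaith hN haW v.2, mul_smul] at h0'
      exact smul_left_cancel _ h0')
    (by
      intro y' hy'
      obtain ⟨hy1, v, hv⟩ := Finset.mem_filter.1 hy'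
      have hv' : (v : G) • y = y' := hv
      show c x y' + c x (a • y') = a • c x y - c x y
      rw [← hv', ← mul_smul, hval _ ((Wt G D x).mul_mem haW v.2), hval _ v.2, W_comm hP hfaith hN haW v.2,
        mul_smul, ← smul_add]
      have h3 : c x y + a • c x y = a • c x y - c x y := by
        have h4 := h2 y (hZ0 hy)
        rw [two_smul] at h4
        have h5 : c x y = - c x y := eq_neg_of_add_eq_zero_left h4
        conv_lhs => rw [h5]
        rw [← h5]
        rw [sub_eq_add_neg, ← h5, add_comm]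
      rw [h3]
      exact fix_sub' hP hN haW v.2 _)
  rw [hs]
  have hcard : O.card = (stabilizer G y).relIndex (Wt G D x) := by
    rw [relIndex_eq_ncard, ← Set.ncard_coe_finset]
    congr 1
    ext y'
    rw [hO, Finset.coe_filter, Set.mem_ofPred_eq]
    constructor
    · exact fun h => h.2
    · intro h
      refine ⟨?_, h⟩
      obtain ⟨v, hv⟩ := h
      have hv' : (v : G) • y = y' := hv
      rw [← hv']
      exact hinv v v.2 y hy
  have hlt := hrel y hy
  rw [← hcard] at hlt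
  have hW2 : IsPGroup 2 (Wt G D x) := hP.to_le (Wt_le x)
  obtain ⟨k, hk⟩ := IsPGroup.iff_card.1 hW2
  have hdvd : O.card ∣ 2 ^ k := by
    rw [hcard, ← hk]
    exact Subgroup.relIndex_dvd_card _ _
  obtain ⟨j, -, hj⟩ := (Nat.dvd_prime_pow Nat.prime_two).1 hdvd
  have hj2 : 2 ≤ j := by
    by_contra hcon
    have : j = 0 ∨ j = 1 := by omega
    rcases this with rfl | rfl <;> · rw [hj] at hlt; norm_num at hlt
  have hm2 : 2 ∣ m := by
    obtain ⟨i, rfl⟩ := Nat.exists_eq_add_of_le hj2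
    rw [hj, pow_add] at hm
    exact ⟨2 ^ i, by omega⟩
  obtain ⟨m', rfl⟩ := hm2
  rw [mul_smul, smul_comm]
  have : 2 • (a • c x y - c x y) = 0 := by
    rw [two_smul]
    rcases Tv_sub_mem ha (c x y) with h | h
    · rw [h, add_zero]
    · rw [h, ha.two_z]
  rw [this, smul_zero]

theorem conj_mem_Wt {x : Ω} {g w : G} (hg : g ∈ stabilizer G x) (hw : w ∈ Wt G D x) :
    g * w * g⁻¹ ∈ Wt G D x := by
  have : Wt G D x ≤ (Wt G D x).comap (MulAut.conj g).toMonoidHom := by
    conv_lhs => rw [Wt]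
    rw [Subgroup.closure_le]
    rintro a ⟨hax, f, z, ha⟩
    show g * a * g⁻¹ ∈ Wt G D x
    exact mem_Wt ((stabilizer G x).mul_mem ((stabilizer G x).mul_mem hg hax) ((stabilizer G x).inv_mem hg))
      (Tv_conj ha g)
  exact this hw

/-- `|W : W ∩ G_y|` is invariant under the elements of `G_x`. -/
theorem relIndex_smul {x : Ω} {g : G} (hg : g ∈ stabilizer G x) (y : Ω) :
    (stabilizer G (g • y)).relIndex (Wt G D x) = (stabilizer G y).relIndex (Wt G D x) := by
  have h1 : (Wt G D x).map (MulAut.conj g).toMonoidHom = Wt G D x := by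
    apply le_antisymm
    · rintro _ ⟨w, hw, rfl⟩
      exact conj_mem_Wt hg hw
    · intro w hw
      refine ⟨g⁻¹ * w * g, ?_, ?_⟩
      · have := conj_mem_Wt ((stabilizer G x).inv_mem hg) hw
        rwa [inv_inv] at this
      · show g * (g⁻¹ * w * g) * g⁻¹ = w
        group
  have h2 : stabilizer G (g • y) = (stabilizer G y).map (MulAut.conj g).toMonoidHom :=
    MulAction.stabilizer_smul_eq_stabilizer_map_conj g y
  conv_lhs => rw [h2, ← h1]
  exact Subgroup.relIndex_map_map_of_injective _ _ (MulAut.conj g).injective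

/-- **S5242, C4c, first part.** -/
theorem caseN_left [Finite G] {Ω₀ : Finset Ω} (h0 : Orb2 G Ω₀) {c : Ω → Ω → D} (hc : Coc2 G Ω₀ c)
    (h2 : ∀ x ∈ Ω₀, ∀ y ∈ Ω₀, 2 • c x y = 0)
    (hfaith : ∀ x ∈ Ω₀, ∀ g ∈ stabilizer G x, (∀ d : D, g • d = d) → g = 1)
    {x : Ω} (hx : x ∈ Ω₀)
    (hN : ∀ a ∈ stabilizer G x, ∀ b ∈ stabilizer G x, ∀ (f : D →+ ZMod 2) (z t : D), Tv a f z → Tv b f t → a = b) :
    ∀ a ∈ stabilizer G x, ∀ (f : D →+ ZMod 2) (z : D), Tv a f z →
      Vv Ω₀ c a x + vN G Ω₀ c x = 0 ∨ Vv Ω₀ c a x + vN G Ω₀ c x = z := by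
  classical
  intro a hax f z ha
  have hP : IsPGroup 2 (stabilizer G x) := by
    obtain ⟨S, hS⟩ := h0.sylow x hx
    rw [← hS]
    exact S.2
  have haW : a ∈ Wt G D x := mem_Wt hax ha
  have haΩ : ∀ y : Ω, a • a • y = y := fun y => by rw [← mul_smul, ha.sq, one_smul]
  -- the part of `V_a(x)` with large orbits vanishes
  have e1 : Vv Ω₀ c a x = ∑ y ∈ (Ω₀.filter (fun y => (stabilizer G y).relIndex (Wt G D x) ≤ 2)).filter
      (fun y => a • y = y), c x y := by
    rw [Vv, ← Finset.sum_filter_add_sum_filter_not (Ω₀.filter (fun y => a • y = y))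
      (fun y => (stabilizer G y).relIndex (Wt G D x) ≤ 2)]
    have h3 : ∑ y ∈ (Ω₀.filter (fun y => a • y = y)).filter
        (fun y => ¬ (stabilizer G y).relIndex (Wt G D x) ≤ 2), c x y = 0 := by
      refine sum_large hP (hfaith x hx) hN hc.equiv (h2 x hx) _ _ rfl ?_ ?_ ?_
      · exact (Finset.filter_subset _ _).trans (Finset.filter_subset _ _)
      · intro w hw y hy
        rw [Finset.mem_filter, Finset.mem_filter] at hy ⊢
        refine ⟨⟨h0.smul_mem w y hy.1.1, ?_⟩, ?_⟩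
        · rw [← mul_smul, W_comm hP (hfaith x hx) hN haW hw, mul_smul, hy.1.2]
        · rw [relIndex_smul (Wt_le x hw)]
          exact hy.2
      · intro y hy
        exact not_le.1 (Finset.mem_filter.1 hy).2
    rw [h3, add_zero, Finset.filter_comm]
  have e2 : vN G Ω₀ c x = ∑ y ∈ (Ω₀.filter (fun y => (stabilizer G y).relIndex (Wt G D x) ≤ 2)).filter
      (fun y => a • y = y), c x y + ∑ y ∈ (Ω₀.filter (fun y =>
        (stabilizer G y).relIndex (Wt G D x) ≤ 2)).filter (fun y => ¬ a • y = y), c x y := by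
    rw [vN, Finset.sum_filter_add_sum_filter_not]
  have e3 : Vv Ω₀ c a x + vN G Ω₀ c x = ∑ y ∈ (Ω₀.filter (fun y =>
        (stabilizer G y).relIndex (Wt G D x) ≤ 2)).filter (fun y => ¬ a • y = y), c x y := by
    rw [e2, e1, ← add_assoc, ← two_smul ℕ, Finset.smul_sum]
    rw [Finset.sum_eq_zero, zero_add]
    intro y hy
    exact h2 x hx y (Finset.filter_subset _ _ (Finset.filter_subset _ _ hy))
  have e4 : Vv Ω₀ c a x + vN G Ω₀ c x ∈ AddSubgroup.zmultiples z := by
    rw [e3]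
    refine sum_pairs_mem _ _ (fun y => a • y) _ _ rfl ?_ ?_ ?_ ?_
    · intro y hy
      rw [Finset.mem_filter, Finset.mem_filter] at hy ⊢
      refine ⟨⟨h0.smul_mem a y hy.1.1, ?_⟩, ?_⟩
      · rw [relIndex_smul hax]
        exact hy.1.2
      · intro h
        exact hy.2 (smul_left_cancel _ h)
    · intro y _
      exact haΩ y
    · intro y hy
      exact (Finset.mem_filter.1 hy).2
    · intro y hy
      have hy0 : y ∈ Ω₀ := Finset.filter_subset _ _ (Finset.filter_subset _ _ hy)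
      have h3 : c x (a • y) = a • c x y := by
        have h4 := hc.equiv a x y
        have h5 : a • x = x := hax
        rwa [h5] at h4
      show c x y + c x (a • y) ∈ _
      rw [h3]
      have h4 := h2 x hx y hy0
      rw [two_smul] at h4
      have h5 : c x y = - c x y := eq_neg_of_add_eq_zero_left h4
      have h6 : c x y + a • c x y = a • c x y - c x y := by
        rw [sub_eq_add_neg, ← h5, add_comm]
      rw [h6]
      rcases Tv_sub_mem ha (c x y) with h | h
      · rw [h]; exact AddSubgroup.zero_mem _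
      · rw [h]; exact AddSubgroup.mem_zmultiples z
  obtain ⟨n, hn⟩ := AddSubgroup.mem_zmultiples_iff.1 e4
  rcases Int.even_or_odd' n with ⟨k, rfl | rfl⟩
  · left
    rw [← hn, mul_comm, mul_smul, two_smul, ha.two_z, smul_zero]
  · right
    rw [← hn, add_smul, mul_comm, mul_smul, two_smul, ha.two_z, smul_zero, zero_add, one_smul]

/-- **S5242, C4c.** -/
theorem caseN [Finite G] {Ω₀ : Finset Ω} (h0 : Orb2 G Ω₀) {c : Ω → Ω → D} (hc : Coc2 G Ω₀ c)
    (h2 : ∀ x ∈ Ω₀, ∀ y ∈ Ω₀, 2 • c x y = 0)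
    (hfaith : ∀ x ∈ Ω₀, ∀ g ∈ stabilizer G x, (∀ d : D, g • d = d) → g = 1)
    {x : Ω} (hx : x ∈ Ω₀)
    (hN : ∀ a ∈ stabilizer G x, ∀ b ∈ stabilizer G x, ∀ (f : D →+ ZMod 2) (z t : D), Tv a f z → Tv b f t → a = b) :
    (∀ a ∈ stabilizer G x, ∀ (f : D →+ ZMod 2) (z : D), Tv a f z →
      Vv Ω₀ c a x + vN G Ω₀ c x = 0 ∨ Vv Ω₀ c a x + vN G Ω₀ c x = z) ∧
    ((∀ x ∈ Ω₀, ∀ y ∈ Ω₀, stabilizer G x ⊓ stabilizer G y ∈ Qs G D → c x y = 0) → stabilizer G x ∈ Qs G D →
      vN G Ω₀ c x = 0) := by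
  classical
  refine ⟨caseN_left h0 hc h2 hfaith hx hN, ?_⟩
  rintro hs ⟨A, hA, hA1, hAB, hAg⟩
  have hP : IsPGroup 2 (stabilizer G x) := by
    obtain ⟨S, hS⟩ := h0.sylow x hx
    rw [← hS]
    exact S.2
  rw [vN, ← Finset.sum_filter_add_sum_filter_not _ (fun y => A ≤ stabilizer G y)]
  have e1 : ∑ y ∈ (Ω₀.filter (fun y => (stabilizer G y).relIndex (Wt G D x) ≤ 2)).filter
      (fun y => A ≤ stabilizer G y), c x y = 0 := by
    refine Finset.sum_eq_zero fun y hy => ?_
    rw [Finset.mem_filter, Finset.mem_filter] at hy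
    exact hs x hx y hy.1.1 ⟨A, le_inf hA hy.2, hA1, hAB, hAg⟩
  have e2 : ∑ y ∈ (Ω₀.filter (fun y => (stabilizer G y).relIndex (Wt G D x) ≤ 2)).filter
      (fun y => ¬ A ≤ stabilizer G y), c x y = 0 := by
    have : Fact (Nat.Prime 2) := ⟨Nat.prime_two⟩
    obtain ⟨m, -, hm⟩ := Cfsg.Agent.H481.Lim.NGood.sum_eq (hP.to_le hA) hAg
      ((Ω₀.filter (fun y => (stabilizer G y).relIndex (Wt G D x) ≤ 2)).filter
        (fun y => ¬ A ≤ stabilizer G y))
      (by
        intro a ha y hy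
        rw [Finset.mem_filter, Finset.mem_filter] at hy ⊢
        refine ⟨⟨h0.smul_mem a y hy.1.1, ?_⟩, fun h => hy.2 fun b hb => ?_⟩
        · rw [relIndex_smul (hA ha)]
          exact hy.1.2
        · have h3 : a * b * a⁻¹ ∈ stabilizer G (a • y) := h (A.mul_mem (A.mul_mem ha hb) (A.inv_mem ha))
          rw [mem_stabilizer_iff, mul_smul, mul_smul, inv_smul_smul] at h3
          exact smul_left_cancel _ h3)
      (by
        intro y hy
        exact (Finset.mem_filter.1 hy).2)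
      (fun y => c x y)
      (by
        intro a ha y _
        have h4 := hc.equiv a x y
        have h5 : a • x = x := hA ha
        rwa [h5] at h4)
      0
      (by
        intro y hy
        exact h2 x hx y (Finset.filter_subset _ _ (Finset.filter_subset _ _ hy)))
      (fun a _ => smul_zero a)
    rw [hm, smul_zero]
  rw [e1, e2, add_zero]

end W

end Cfsg.Agent.H521.Lim
end

-- part: H88/Lim/VanishQ1
section
/-!
# Claim T, section C5: downward induction (helper88, for S5242)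
-/

set_option autoImplicit false

namespace Cfsg.Agent.H88.Lim

open MulAction Cfsg.Agent.H539.Lim Pointwise

universe u v w

variable {G : Type u} [Group G] [Finite G] {Ω : Type v} [MulAction G Ω] [Finite Ω] {D : Type w} [AddCommGroup D]
  [DistribMulAction G D] [Finite D]

omit [Finite G] [Finite D] in
/-- in `ZMod 2` every element is `0` or `1` -/
private theorem zmod2 (t : ZMod 2) : t = 0 ∨ t = 1 := by
  revert t; decide

omit [Finite G] [Finite D] in
/-- the action of a transvection on a vector -/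
private theorem Tv.cases {a : G} {f : D →+ ZMod 2} {z : D} (h : Tv a f z) (d : D) :
    (f d = 0 ∧ a • d = d) ∨ (f d = 1 ∧ a • d = d + z) := by
  rcases zmod2 (f d) with h0 | h0
  · left; refine ⟨h0, ?_⟩; rw [h.act d, h0]; simp
  · right; refine ⟨h0, ?_⟩; rw [h.act d, h0]
    have : (1 : ZMod 2).val = 1 := rfl
    rw [this, one_smul]

omit [Finite G] [Finite D] in
private theorem Tv.exists_one {a : G} {f : D →+ ZMod 2} {z : D} (h : Tv a f z) : ∃ d, f d = 1 := by
  by_contra hcon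
  push Not at hcon
  exact h.f_ne (by ext d; rcases zmod2 (f d) with h0 | h0
                   · simp [h0]
                   · exact absurd h0 (hcon d))

omit [Finite G] in
/-- `⟨a⟩` is a best offender -/
theorem bo_zpowers {a : G} {f : D →+ ZMod 2} {z : D} (h : Tv a f z) : BO D (Subgroup.zpowers a) := by
  have ha1 : ∀ u ∈ Subgroup.zpowers a, u = 1 ∨ u = a := by
    rintro u ⟨n, rfl⟩
    rcases Int.even_or_odd' n with ⟨k, rfl | rfl⟩
    · left
      show a ^ (2 * k) = 1
      rw [zpow_mul, zpow_two, h.sq, one_zpow]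
    · right
      show a ^ (2 * k + 1) = a
      rw [zpow_add, zpow_mul, zpow_two, h.sq, one_zpow, zpow_one, one_mul]
  have hord : orderOf a = 2 := orderOf_eq_prime (by rw [pow_two]; exact h.sq) h.ne_one
  have hcard : Nat.card (Subgroup.zpowers a) = 2 := by rw [Nat.card_zpowers, hord]
  have hker : (DFix (Subgroup.zpowers a) D : AddSubgroup D) = f.ker := by
    ext d
    constructor
    · intro hd
      have h1 : a • d = d := hd a (Subgroup.mem_zpowers a)
      rcases Tv.cases h d with ⟨h0, _⟩ | ⟨_, h2⟩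
      · exact h0
      · exfalso
        rw [h1] at h2
        exact h.z_ne (by simpa using h2)
    · intro hd u hu
      have hd' : f d = 0 := hd
      rcases ha1 u hu with rfl | rfl
      · exact one_smul _ _
      · rcases Tv.cases h d with ⟨_, h2⟩ | ⟨h0, _⟩
        · exact h2
        · rw [hd'] at h0; exact absurd h0 (by decide)
  have hindex : f.ker.index = 2 := by
    obtain ⟨d, hd⟩ := Tv.exists_one h
    have hs : Function.Surjective f := by
      intro t
      rcases zmod2 t with rfl | rfl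
      · exact ⟨0, map_zero f⟩
      · exact ⟨d, hd⟩
    rw [AddSubgroup.index_ker, AddMonoidHom.range_eq_top.mpr hs]
    simp
  have hD : Nat.card D = 2 * Nat.card (DFix (Subgroup.zpowers a) D) := by
    have h3 : Nat.card f.ker * f.ker.index = Nat.card D := AddSubgroup.card_mul_index f.ker
    rw [hindex] at h3
    have h4 : Nat.card (DFix (Subgroup.zpowers a) D) = Nat.card f.ker := by
      exact congrArg (fun S : AddSubgroup D => Nat.card S) hker
    rw [h4]; omega
  refine ⟨?_, ?_⟩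
  · intro u hu w hw
    rcases ha1 u hu with rfl | rfl <;> rcases ha1 w hw with rfl | rfl <;> simp
  · intro B hB
    by_cases haB : a ∈ B
    · have : B = Subgroup.zpowers a := le_antisymm hB (by simpa using haB)
      rw [this]
    · have hB1 : B = ⊥ := by
        rw [eq_bot_iff]
        intro u hu
        rcases ha1 u (hB hu) with rfl | rfl
        · exact Subgroup.mem_bot.mpr rfl
        · exact absurd hu haB
      have h5 : Nat.card (DFix (⊥ : Subgroup G) D) ≤ Nat.card D :=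
        Nat.card_le_card_of_injective (fun d => d.1) Subtype.val_injective
      have h6 : Nat.card B = 1 := by rw [hB1]; simp
      rw [h6, hB1, hcard, one_mul]
      omega

omit [Finite G] in
/-- a subgroup containing a transvection is in `Q0` -/
theorem mem_Q0 {P R : Subgroup G} (hP : P ∈ Q1 G D) (hPR : P ≤ R) : R ∈ Q0 G D := by
  obtain ⟨a, ha, f, z, h⟩ := hP
  refine ⟨Subgroup.zpowers a, ?_, ?_, bo_zpowers h⟩
  · simpa using hPR ha
  · intro hb
    rw [Subgroup.zpowers_eq_bot] at hb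
    exact h.ne_one hb

omit [Finite G] [Finite D] in
/-- conjugate of a transvection -/
theorem Tv.conj {a : G} {f : D →+ ZMod 2} {z : D} (h : Tv a f z) (g : G) :
    Tv (g⁻¹ * a * g) (f.comp (DistribSMul.toAddMonoidHom D g)) (g⁻¹ • z) where
  ne_one := by
    intro hh
    apply h.ne_one
    calc a = g * (g⁻¹ * a * g) * g⁻¹ := by group
      _ = 1 := by rw [hh]; group
  sq := by
    calc g⁻¹ * a * g * (g⁻¹ * a * g) = g⁻¹ * (a * a) * g := by group
      _ = 1 := by rw [h.sq]; group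
  z_ne := by
    intro hh
    apply h.z_ne
    have := congrArg (fun t => g • t) hh
    simpa using this
  two_z := by rw [← smul_add, h.two_z, smul_zero]
  f_ne := by
    intro hh
    obtain ⟨d, hd⟩ := Tv.exists_one h
    have h1 := DFunLike.congr_fun hh (g⁻¹ • d)
    simp [hd] at h1
  fz := by simp [h.fz]
  act := by
    intro d
    have h1 : (g⁻¹ * a * g) • d = g⁻¹ • a • g • d := by rw [smul_smul, smul_smul]
    rw [h1, h.act (g • d), smul_add, inv_smul_smul]
    congr 1
    rw [← smul_comm]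
    rfl

omit [Finite G] [Finite D] in
/-- the centre of a transvection is unique -/
theorem Tv.centre_unique {a : G} {f f' : D →+ ZMod 2} {z z' : D} (h : Tv a f z) (h' : Tv a f' z') : z = z' := by
  obtain ⟨d, hd⟩ := Tv.exists_one h
  rcases Tv.cases h d with ⟨h0, _⟩ | ⟨_, h1⟩
  · rw [hd] at h0; exact absurd h0 (by decide)
  · rcases Tv.cases h' d with ⟨_, h2⟩ | ⟨_, h2⟩
    · rw [h2] at h1
      exact absurd (by simpa using h1) h.z_ne
    · rw [h2] at h1
      exact (add_left_cancel h1).symm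

omit [Finite Ω] [Finite D] in
/-- a Sylow orbit contains a point fixed by a given `2`-subgroup -/
theorem exists_point {Ω₀ : Finset Ω} (h0 : Orb2 G Ω₀) {x : Ω} (hx : x ∈ Ω₀) {R : Subgroup G}
    (hR : IsPGroup 2 R) : ∃ y ∈ Ω₀, R ≤ stabilizer G y := by
  have : Fact (Nat.Prime 2) := ⟨Nat.prime_two⟩
  obtain ⟨S, hS⟩ := h0.sylow x hx
  obtain ⟨T, hT⟩ := hR.exists_le_sylow
  obtain ⟨g, hg⟩ := MulAction.exists_smul_eq G S T
  refine ⟨g • x, h0.smul_mem g x hx, ?_⟩
  intro r hr
  have h1 : r ∈ (T : Subgroup G) := hT hr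
  rw [← hg] at h1
  have h2 : g⁻¹ * r * g ∈ (S : Subgroup G) := by
    have h3 : r ∈ MulAut.conj g • (S : Subgroup G) := h1
    rw [Subgroup.mem_pointwise_smul_iff_inv_smul_mem] at h3
    simpa [MulAut.smul_def, mul_assoc] using h3
  rw [hS, mem_stabilizer_iff] at h2
  rw [mem_stabilizer_iff]
  calc r • g • x = g • (g⁻¹ * r * g) • x := by rw [smul_smul, smul_smul]; congr 1; group
    _ = g • x := by rw [h2]

omit [Finite G] [Finite D] [Finite Ω] in
/-- an involution fixes an odd number of points of `Ω₀` -/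
theorem odd_fixed {Ω₀ : Finset Ω} (h0 : Orb2 G Ω₀) {a : G} (ha : a * a = 1) (s : Finset Ω)
    (hs : ∀ y, y ∈ s ↔ y ∈ Ω₀ ∧ a • y = y) : Odd s.card := by
  classical
  have h1 : ∑ _y ∈ Ω₀ \ s, (1 : ZMod 2) = 0 := by
    refine Finset.sum_involution (fun y _ => a • y) ?_ ?_ ?_ ?_
    · intro y _; decide
    · intro y hy _ hh
      rw [Finset.mem_sdiff, hs] at hy
      exact hy.2 ⟨hy.1, hh⟩
    · intro y hy
      rw [Finset.mem_sdiff, hs] at hy ⊢
      refine ⟨h0.smul_mem a y hy.1, fun hh => hy.2 ⟨hy.1, ?_⟩⟩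
      have := hh.2
      rw [smul_smul, ha, one_smul] at this
      exact this.symm
    · intro y _
      show a • a • y = y
      rw [smul_smul, ha, one_smul]
  have h2 : ((Ω₀ \ s).card : ZMod 2) = 0 := by simpa using h1
  have h3 : Even (Ω₀ \ s).card := (ZMod.natCast_eq_zero_iff_even).mp h2
  have hsub : s ⊆ Ω₀ := fun y hy => ((hs y).mp hy).1
  have h4 : (Ω₀ \ s).card + s.card = Ω₀.card := Finset.card_sdiff_add_card_eq_card hsub
  have h5 := h0.odd
  rw [← h4] at h5
  exact (Nat.odd_add'.mp h5).mpr h3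

omit [Finite G] [Finite D] [Finite Ω] in
/-- an odd multiple of an element of order two -/
private theorem odd_smul {n : ℕ} (hn : Odd n) {d : D} (hd : 2 • d = 0) : n • d = d := by
  obtain ⟨k, rfl⟩ := hn
  rw [add_smul, mul_comm, mul_smul, hd, smul_zero, one_smul, zero_add]

omit [Finite G] [Finite Ω] in
/-- `c x y` from the vertex functions -/
theorem c_eq_Vv' {Ω₀ : Finset Ω} (h0 : Orb2 G Ω₀) {c : Ω → Ω → D} (hc : Coc2 G Ω₀ c)
    (h2 : ∀ x ∈ Ω₀, ∀ y ∈ Ω₀, 2 • c x y = 0) {a : G} {f : D →+ ZMod 2} {z : D} (ha : Tv a f z) {x y : Ω}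
    (hx : x ∈ Ω₀) (hy : y ∈ Ω₀) (hax : a • x = x) (hay : a • y = y) :
    c x y = Vv Ω₀ c a x + Vv Ω₀ c a y := by
  classical
  have hF : ∀ w, w ∈ (Ω₀.filter (fun y => a • y = y)) ↔ w ∈ Ω₀ ∧ a • w = w := fun w => Finset.mem_filter
  have hodd := odd_fixed h0 ha.sq _ hF
  have h3 : ∀ w ∈ Ω₀.filter (fun y => a • y = y), c x w = c x y + c y w := by
    intro w hw
    rw [hF] at hw
    apply hc.coc x hx y hy w hw.1
    refine mem_Q0 (P := Subgroup.zpowers a) ⟨a, Subgroup.mem_zpowers a, f, z, ha⟩ ?_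
    rw [Subgroup.zpowers_le]
    exact ⟨⟨mem_stabilizer_iff.mpr hax, mem_stabilizer_iff.mpr hay⟩, mem_stabilizer_iff.mpr hw.2⟩
  have h4 : Vv Ω₀ c a x = c x y + Vv Ω₀ c a y := by
    have e1 : Vv Ω₀ c a x = ∑ w ∈ Ω₀.filter (fun y => a • y = y), c x w := by
      unfold Vv; congr!
    have e2 : Vv Ω₀ c a y = ∑ w ∈ Ω₀.filter (fun y => a • y = y), c y w := by
      unfold Vv; congr!
    rw [e1, e2, Finset.sum_congr rfl h3, Finset.sum_add_distrib, Finset.sum_const,
      odd_smul hodd (h2 x hx y hy)]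
  have h5 : Vv Ω₀ c a y + Vv Ω₀ c a y = 0 := by
    rw [← two_nsmul]
    unfold Vv
    rw [Finset.smul_sum]
    apply Finset.sum_eq_zero
    intro w hw
    exact h2 y hy w (Finset.mem_filter.mp hw).1
  rw [h4, add_assoc, h5, add_zero]

omit [Finite G] [Finite D] [Finite Ω] in
/-- equivariance of the vertex functions -/
theorem Vv_smul {Ω₀ : Finset Ω} (h0 : Orb2 G Ω₀) {c : Ω → Ω → D} (hc : Coc2 G Ω₀ c) (a g : G) (x : Ω) :
    Vv Ω₀ c a (g • x) = g • Vv Ω₀ c (g⁻¹ * a * g) x := by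
  classical
  have hfix : ∀ w : Ω, (g⁻¹ * a * g) • w = w ↔ a • g • w = g • w := by
    intro w
    constructor
    · intro h
      calc a • g • w = g • (g⁻¹ * a * g) • w := by rw [smul_smul, smul_smul]; congr 1; group
        _ = g • w := by rw [h]
    · intro h
      calc (g⁻¹ * a * g) • w = g⁻¹ • a • g • w := by rw [smul_smul, smul_smul]
        _ = w := by rw [h, inv_smul_smul]
  unfold Vv
  rw [Finset.smul_sum]
  refine Finset.sum_nbij' (fun w => g⁻¹ • w) (fun w => g • w) ?_ ?_ ?_ ?_ ?_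
  · intro w hw
    rw [Finset.mem_filter] at hw ⊢
    refine ⟨h0.smul_mem _ _ hw.1, ?_⟩
    rw [hfix, smul_inv_smul]
    exact hw.2
  · intro w hw
    rw [Finset.mem_filter] at hw ⊢
    exact ⟨h0.smul_mem _ _ hw.1, (hfix w).mp hw.2⟩
  · intro w _; exact smul_inv_smul g w
  · intro w _; exact inv_smul_smul g w
  · intro w _
    rw [← hc.equiv, smul_inv_smul]

omit [Finite G] [Finite D] [Finite Ω] in
private theorem val_smul_add {z : D} (hz : z + z = 0) (s t : ZMod 2) :
    (s + t).val • z = s.val • z + t.val • z := by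
  have h1 : (1 : ZMod 2).val = 1 := rfl
  have h11 : (1 + 1 : ZMod 2) = 0 := by decide
  rcases zmod2 s with rfl | rfl <;> rcases zmod2 t with rfl | rfl
  · simp
  · simp
  · simp
  · rw [h11, h1, ZMod.val_zero, zero_smul, one_smul, hz]

omit [Finite G] [Finite D] [Finite Ω] in
/-- the number of transvections with a given centre in a subgroup acting faithfully is odd -/
theorem odd_card_tv {P : Subgroup G} (hfaith : ∀ g ∈ P, (∀ d : D, g • d = d) → g = 1) {a : G} (haP : a ∈ P)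
    {f : D →+ ZMod 2} {z : D} (ha : Tv a f z)
    (hone : ∀ b ∈ P, ∀ (f' : D →+ ZMod 2) (z' : D), Tv b f' z' → z' = z) (T : Finset G)
    (hT : ∀ b, b ∈ T ↔ b ∈ P ∧ ∃ (f' : D →+ ZMod 2) (z' : D), Tv b f' z') : Odd T.card := by
  classical
  have hsq : ∀ b ∈ P, (∃ f' : D →+ ZMod 2, f' z = 0 ∧ ∀ d : D, b • d = d + (f' d).val • z) → b * b = 1 := by
    rintro b hb ⟨f', hfz, hact⟩
    apply hfaith _ (P.mul_mem hb hb)
    intro d
    have h1 : b • z = z := by rw [hact z, hfz]; simp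
    have h2 : b • (f' d).val • z = (f' d).val • z := by rw [smul_comm, h1]
    rw [mul_smul, hact d, smul_add, hact d, h2, add_assoc, ← smul_add, ha.two_z, smul_zero, add_zero]
  let K : Subgroup G :=
    { carrier := {b | b ∈ P ∧ ∃ f' : D →+ ZMod 2, f' z = 0 ∧ ∀ d : D, b • d = d + (f' d).val • z}
      one_mem' := ⟨P.one_mem, 0, by simp, fun d => by simp⟩
      mul_mem' := by
        rintro b b' ⟨hb, f1, hf1, hact1⟩ ⟨hb', f2, hf2, hact2⟩
        refine ⟨P.mul_mem hb hb', f1 + f2, by simp [hf1, hf2], ?_⟩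
        intro d
        have h1 : b • z = z := by rw [hact1 z, hf1]; simp
        have h2 : b • (f2 d).val • z = (f2 d).val • z := by rw [smul_comm, h1]
        rw [mul_smul, hact2 d, smul_add, hact1 d, h2, AddMonoidHom.add_apply, val_smul_add ha.two_z, add_assoc]
      inv_mem' := by
        rintro b ⟨hb, hh⟩
        have h1 := hsq b hb hh
        have h2 : b⁻¹ = b := inv_eq_of_mul_eq_one_left h1
        rw [h2]
        exact ⟨hb, hh⟩ }
  have haK : a ∈ K := ⟨haP, f, ha.fz, ha.act⟩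
  have hord : orderOf a = 2 := orderOf_eq_prime (by rw [pow_two]; exact ha.sq) ha.ne_one
  have h2 : 2 ∣ Nat.card K := by
    have := Subgroup.orderOf_dvd_natCard K haK
    rwa [hord] at this
  have hKT : ∀ b, b ∈ insert 1 T ↔ b ∈ K := by
    intro b
    rw [Finset.mem_insert, hT]
    constructor
    · rintro (rfl | ⟨hb, f', z', hb'⟩)
      · exact K.one_mem
      · have hz := hone b hb f' z' hb'
        subst hz
        exact ⟨hb, f', hb'.fz, hb'.act⟩
    · rintro ⟨hb, f', hf', hact⟩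
      by_cases hb1 : b = 1
      · exact Or.inl hb1
      · right
        refine ⟨hb, f', z, hb1, hsq b hb ⟨f', hf', hact⟩, ha.z_ne, ha.two_z, ?_, hf', hact⟩
        rintro rfl
        exact hb1 (hfaith b hb (fun d => by rw [hact d]; simp))
  have h1T : (1 : G) ∉ T := by
    rw [hT]
    rintro ⟨_, f', z', h⟩
    exact h.ne_one rfl
  have hcard : Nat.card K = T.card + 1 := by
    rw [← Finset.card_insert_of_notMem h1T]
    have hset : (K : Set G) = ↑(insert 1 T) := by
      ext b; rw [Finset.mem_coe, hKT]; rfl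
    have h3 : Nat.card K = Nat.card (↑(insert 1 T) : Set G) := Nat.card_congr (Equiv.setCongr hset)
    rw [h3, Nat.card_coe_set_eq, Set.ncard_coe_finset]
  rw [hcard] at h2
  rw [Nat.odd_iff]
  omega

section Main

variable {Ω₀ : Finset Ω} {c : Ω → Ω → D}

omit [Finite G] [Finite D] [Finite Ω] in
private theorem mem01 {z s t : D} (hz : z + z = 0) (hs : s = 0 ∨ s = z) (ht : t = 0 ∨ t = z) :
    s + t = 0 ∨ s + t = z := by
  rcases hs with rfl | rfl <;> rcases ht with rfl | rfl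
  · left; simp
  · right; simp
  · right; simp
  · left; exact hz

omit [Finite Ω] in
/-- the final case: `c' y (g y) = 0` for `g` normalizing `P ≤ G_y` -/
theorem vanish_conj (h0 : Orb2 G Ω₀) (hc : Coc2 G Ω₀ c)
    (h2 : ∀ x ∈ Ω₀, ∀ y ∈ Ω₀, 2 • c x y = 0)
    (hfaith : ∀ x ∈ Ω₀, ∀ g ∈ stabilizer G x, (∀ d : D, g • d = d) → g = 1)
    (v : Ω → D) (hv : ∀ (g : G), ∀ y ∈ Ω₀, v (g • y) = g • v y) (hv2 : ∀ y ∈ Ω₀, 2 • v y = 0)
    (hvV : ∀ x ∈ Ω₀, ∀ a ∈ stabilizer G x, ∀ (f : D →+ ZMod 2) (z : D), Tv a f z →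
      Vv Ω₀ c a x + v x = 0 ∨ Vv Ω₀ c a x + v x = z)
    {P : Subgroup G} (hP : P ∈ Q1 G D) {y : Ω} (hy : y ∈ Ω₀) (hPy : P ≤ stabilizer G y) {g : G}
    (hg : ∀ u, u ∈ P ↔ g⁻¹ * u * g ∈ P) :
    c y (g • y) - (v (g • y) - v y) = 0 := by
  classical
  have : Fintype G := Fintype.ofFinite G
  have hgy : g • y ∈ Ω₀ := h0.smul_mem g y hy
  have hPg : P ≤ stabilizer G (g • y) := by
    intro u hu
    have h3 := hPy ((hg u).mp hu)
    rw [mem_stabilizer_iff] at h3 ⊢
    calc u • g • y = g • (g⁻¹ * u * g) • y := by rw [smul_smul, smul_smul]; congr 1; group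
      _ = g • y := by rw [h3]
  have hform : ∀ a ∈ P, ∀ (f : D →+ ZMod 2) (z : D), Tv a f z →
      c y (g • y) - (v (g • y) - v y) = (Vv Ω₀ c a y + v y) + (Vv Ω₀ c a (g • y) + v (g • y)) := by
    intro a ha f z hTv
    rw [c_eq_Vv' h0 hc h2 hTv hy hgy (hPy ha) (hPg ha)]
    have h4 : v (g • y) + v (g • y) = 0 := by rw [← two_nsmul]; exact hv2 _ hgy
    have h5 : - v (g • y) = v (g • y) := neg_eq_of_add_eq_zero_left h4
    rw [sub_eq_add_neg, neg_sub, sub_eq_add_neg, h5]
    abel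
  set C := c y (g • y) - (v (g • y) - v y) with hC
  have h2C : C + C = 0 := by
    have h6 := h2 y hy (g • y) hgy
    have h7 := hv2 y hy
    have h8 := hv2 (g • y) hgy
    rw [two_nsmul] at h6 h7 h8
    rw [hC]
    calc c y (g • y) - (v (g • y) - v y) + (c y (g • y) - (v (g • y) - v y))
        = (c y (g • y) + c y (g • y)) - (v (g • y) + v (g • y)) + (v y + v y) := by abel
      _ = 0 := by rw [h6, h7, h8]; simp
  obtain ⟨a, haP, f, z, hTv⟩ := hP
  by_cases hone : ∀ b ∈ P, ∀ (f' : D →+ ZMod 2) (z' : D), Tv b f' z' → z' = z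
  · -- all centres are equal
    let T : Finset G := Finset.univ.filter (fun b => b ∈ P ∧ ∃ (f' : D →+ ZMod 2) (z' : D), Tv b f' z')
    have hT : ∀ b, b ∈ T ↔ b ∈ P ∧ ∃ (f' : D →+ ZMod 2) (z' : D), Tv b f' z' := by
      intro b; simp [T]
    have hodd := odd_card_tv (fun g hg => hfaith y hy g (hPy hg)) haP hTv hone T hT
    have hgz : g • z = z := by
      have h9 := hone (g⁻¹ * a * g) ((hg a).mp haP) _ _ (Tv.conj hTv g)
      rw [← h9, smul_inv_smul, h9]
    have h10 : ∀ b ∈ T, C = (Vv Ω₀ c b y + v y) + g • (Vv Ω₀ c (g⁻¹ * b * g) y + v y) := by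
      intro b hb
      obtain ⟨hbP, f', z', hb'⟩ := (hT b).mp hb
      rw [hform b hbP f' z' hb', Vv_smul h0 hc, hv g y hy, smul_add]
    have h11 : T.card • C = ∑ b ∈ T, (Vv Ω₀ c b y + v y) + g • ∑ b ∈ T, (Vv Ω₀ c (g⁻¹ * b * g) y + v y) := by
      rw [Finset.smul_sum, ← Finset.sum_add_distrib, ← Finset.sum_const]
      exact Finset.sum_congr rfl h10
    have h12 : ∑ b ∈ T, (Vv Ω₀ c (g⁻¹ * b * g) y + v y) = ∑ b ∈ T, (Vv Ω₀ c b y + v y) := by
      refine Finset.sum_nbij' (fun b => g⁻¹ * b * g) (fun b => g * b * g⁻¹) ?_ ?_ ?_ ?_ ?_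
      · intro b hb
        obtain ⟨hbP, f', z', hb'⟩ := (hT b).mp hb
        rw [hT]
        exact ⟨(hg b).mp hbP, _, _, Tv.conj hb' g⟩
      · intro b hb
        obtain ⟨hbP, f', z', hb'⟩ := (hT b).mp hb
        rw [hT]
        refine ⟨?_, ?_⟩
        · rw [hg]
          have : g⁻¹ * (g * b * g⁻¹) * g = b := by group
          rwa [this]
        · have h13 := Tv.conj hb' g⁻¹
          rw [inv_inv] at h13
          exact ⟨_, _, h13⟩
      · intro b _; show g * (g⁻¹ * b * g) * g⁻¹ = b; group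
      · intro b _; show g⁻¹ * (g * b * g⁻¹) * g = b; group
      · intro b _; rfl
    have h14 : ∀ b ∈ T, Vv Ω₀ c b y + v y = 0 ∨ Vv Ω₀ c b y + v y = z := by
      intro b hb
      obtain ⟨hbP, f', z', hb'⟩ := (hT b).mp hb
      have h15 := hone b hbP f' z' hb'
      subst h15
      exact hvV y hy b (hPy hbP) f' _ hb'
    have h16 : g • ∑ b ∈ T, (Vv Ω₀ c b y + v y) = ∑ b ∈ T, (Vv Ω₀ c b y + v y) := by
      rw [Finset.smul_sum]
      refine Finset.sum_congr rfl ?_
      intro b hb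
      rcases h14 b hb with h | h
      · rw [h, smul_zero]
      · rw [h, hgz]
    have h17 : ∑ b ∈ T, (Vv Ω₀ c b y + v y) + ∑ b ∈ T, (Vv Ω₀ c b y + v y) = 0 := by
      rw [← Finset.sum_add_distrib]
      apply Finset.sum_eq_zero
      intro b hb
      rcases h14 b hb with h | h
      · rw [h, add_zero]
      · rw [h, hTv.two_z]
    rw [h12, h16, h17] at h11
    rw [← odd_smul hodd (d := C) (by rw [two_nsmul]; exact h2C)]
    exact h11
  · -- two different centres
    push Not at hone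
    obtain ⟨b, hbP, f', z', hb', hne⟩ := hone
    have hA : C = 0 ∨ C = z := by
      rw [hform a haP f z hTv]
      exact mem01 hTv.two_z (hvV y hy a (hPy haP) f z hTv) (hvV _ hgy a (hPg haP) f z hTv)
    have hB : C = 0 ∨ C = z' := by
      rw [hform b hbP f' z' hb']
      exact mem01 hb'.two_z (hvV y hy b (hPy hbP) f' z' hb') (hvV _ hgy b (hPg hbP) f' z' hb')
    rcases hA with h | h
    · exact h
    · rcases hB with h' | h'
      · exact h'
      · exact absurd (h'.symm.trans h) hne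

omit [Finite G] [Finite D] [Finite Ω] in
/-- `c'` is additive along paths with large stabilizers -/
private theorem coc' (hc : Coc2 G Ω₀ c) (v : Ω → D) {P : Subgroup G} (hP : P ∈ Q1 G D) [Finite D] {x y w : Ω}
    (hx : x ∈ Ω₀) (hy : y ∈ Ω₀) (hw : w ∈ Ω₀) (h1 : P ≤ stabilizer G x) (h2 : P ≤ stabilizer G y)
    (h3 : P ≤ stabilizer G w) :
    c x w - (v w - v x) = (c x y - (v y - v x)) + (c y w - (v w - v y)) := by
  have h4 : c x w = c x y + c y w := hc.coc x hx y hy w hw (mem_Q0 hP (le_inf (le_inf h1 h2) h3))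
  rw [h4]; abel

omit [Finite D] [Finite Ω] in
/-- normalizers grow in `2`-groups -/
private theorem exists_norm {S P : Subgroup G} (hS : IsPGroup 2 S) (hPS : P < S) :
    ∃ s ∈ S, s ∉ P ∧ s ∈ Subgroup.normalizer (P : Set G) := by
  have : Fact (Nat.Prime 2) := ⟨Nat.prime_two⟩
  have hnil : Group.IsNilpotent S := hS.isNilpotent
  have h1 : P.subgroupOf S < ⊤ := by
    rw [lt_top_iff_ne_top]
    intro h
    rw [Subgroup.subgroupOf_eq_top] at h
    exact absurd h (not_le_of_gt hPS)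
  have h2 := Group.normalizerCondition_of_isNilpotent (G := S) (P.subgroupOf S) h1
  obtain ⟨s, hs, hsP⟩ := SetLike.exists_of_lt h2
  refine ⟨s, s.2, ?_, ?_⟩
  · intro h; exact hsP (Subgroup.mem_subgroupOf.mpr h)
  · rw [Subgroup.mem_normalizer_iff] at hs ⊢
    intro u
    constructor
    · intro hu
      have h3 := (hs ⟨u, hPS.le hu⟩).mp (Subgroup.mem_subgroupOf.mpr hu)
      exact Subgroup.mem_subgroupOf.mp h3
    · intro hu
      have h5 : u ∈ S := by
        have h6 := hPS.le hu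
        have h7 : (s : G)⁻¹ * ((s : G) * u * (s : G)⁻¹) * s ∈ S := S.mul_mem (S.mul_mem (S.inv_mem s.2) h6) s.2
        have h8 : (s : G)⁻¹ * ((s : G) * u * (s : G)⁻¹) * s = u := by group
        rwa [h8] at h7
      have h9 := (hs ⟨u, h5⟩).mpr (Subgroup.mem_subgroupOf.mpr hu)
      exact Subgroup.mem_subgroupOf.mp h9

omit [Finite Ω] in
/-- C5: downward induction -/
theorem vanish_Q1 (hΩ : PSet 2 G Ω) (h0 : Orb2 G Ω₀) (hc : Coc2 G Ω₀ c)
    (h2 : ∀ x ∈ Ω₀, ∀ y ∈ Ω₀, 2 • c x y = 0)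
    (hfaith : ∀ x ∈ Ω₀, ∀ g ∈ stabilizer G x, (∀ d : D, g • d = d) → g = 1)
    (v : Ω → D) (hv : ∀ (g : G), ∀ y ∈ Ω₀, v (g • y) = g • v y) (hv2 : ∀ y ∈ Ω₀, 2 • v y = 0)
    (hvV : ∀ x ∈ Ω₀, ∀ a ∈ stabilizer G x, ∀ (f : D →+ ZMod 2) (z : D), Tv a f z →
      Vv Ω₀ c a x + v x = 0 ∨ Vv Ω₀ c a x + v x = z) :
    ∀ x ∈ Ω₀, ∀ y ∈ Ω₀, stabilizer G x ⊓ stabilizer G y ∈ Q1 G D → c x y = v y - v x := by
  have : Fact (Nat.Prime 2) := ⟨Nat.prime_two⟩
  suffices H : ∀ n : ℕ, ∀ x ∈ Ω₀, ∀ y ∈ Ω₀, stabilizer G x ⊓ stabilizer G y ∈ Q1 G D →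
      Nat.card G - Nat.card ↥(stabilizer G x ⊓ stabilizer G y) = n → c x y - (v y - v x) = 0 by
    intro x hx y hy hxy
    exact sub_eq_zero.mp (H _ x hx y hy hxy rfl)
  intro n
  induction n using Nat.strong_induction_on with
  | _ n IH =>
  intro x hx y hy hP hn
  set P := stabilizer G x ⊓ stabilizer G y with hPdef
  have hPx : P ≤ stabilizer G x := inf_le_left
  have hPy : P ≤ stabilizer G y := inf_le_right
  -- points with a larger common stabilizer
  have hup : ∀ x' ∈ Ω₀, ∀ y' ∈ Ω₀, P < stabilizer G x' ⊓ stabilizer G y' → c x' y' - (v y' - v x') = 0 := by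
    intro x' hx' y' hy' hlt
    refine IH _ ?_ x' hx' y' hy' ?_ rfl
    · have h3 : Nat.card P < Nat.card ↥(stabilizer G x' ⊓ stabilizer G y') := by
        refine lt_of_le_of_ne (Subgroup.card_le_of_le hlt.le) ?_
        intro h
        exact hlt.ne (Subgroup.eq_of_le_of_card_ge hlt.le h.ge)
      have h4 : Nat.card ↥(stabilizer G x' ⊓ stabilizer G y') ≤ Nat.card G := Subgroup.card_le_card_group _
      omega
    · obtain ⟨a, ha, f, z, hTv⟩ := hP
      exact ⟨a, hlt.le ha, f, z, hTv⟩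
  by_cases hPx' : P = stabilizer G x
  · -- both stabilizers are equal to `P`
    obtain ⟨g, hg⟩ := h0.trans x hx y hy
    have hPy' : P = stabilizer G y := by
      apply Subgroup.eq_of_le_of_card_ge hPy
      rw [← hg, hPx', stabilizer_smul_eq_stabilizer_map_conj, Subgroup.card_map_of_injective]
      exact (MulAut.conj g).injective
    have hgn : ∀ u, u ∈ P ↔ g⁻¹ * u * g ∈ P := by
      intro u
      have h5 : u ∈ P ↔ u ∈ stabilizer G (g • x) := by rw [hg, ← hPy']
      rw [h5, hPx', mem_stabilizer_iff, mem_stabilizer_iff]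
      constructor
      · intro h
        calc (g⁻¹ * u * g) • x = g⁻¹ • u • g • x := by rw [smul_smul, smul_smul]
          _ = x := by rw [h, inv_smul_smul]
      · intro h
        calc u • g • x = g • (g⁻¹ * u * g) • x := by rw [smul_smul, smul_smul]; congr 1; group
          _ = g • x := by rw [h]
    rw [← hg]
    exact vanish_conj h0 hc h2 hfaith v hv hv2 hvV hP hx hPx hgn
  · have hltx : P < stabilizer G x := lt_of_le_of_ne hPx hPx'
    have hlty : P < stabilizer G y := by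
      refine lt_of_le_of_ne hPy ?_
      intro h
      apply hPx'
      apply Subgroup.eq_of_le_of_card_ge hPx
      obtain ⟨g, hg⟩ := h0.trans x hx y hy
      have h6 : Nat.card (stabilizer G y) = Nat.card (stabilizer G x) := by
        rw [← hg, stabilizer_smul_eq_stabilizer_map_conj, Subgroup.card_map_of_injective]
        exact (MulAut.conj g).injective
      rw [h, h6]
    set N : Subgroup G := Subgroup.normalizer (P : Set G) with hN
    -- Sylow subgroups of the normalizer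
    have key : ∀ w ∈ Ω₀, P < stabilizer G w → ∃ S : Sylow 2 N, ∃ s ∈ stabilizer G w, s ∉ P ∧
        s ∈ (S : Subgroup N).map N.subtype := by
      intro w hw hlt
      have hpw := hΩ.pgroup w
      obtain ⟨s, hs, hsP, hsN⟩ := exists_norm hpw hlt
      have h7 : IsPGroup 2 ((stabilizer G w).subgroupOf N) := by
        exact hpw.comap_of_injective N.subtype N.subtype_injective
      obtain ⟨S, hS⟩ := h7.exists_le_sylow
      exact ⟨S, s, hs, hsP, ⟨⟨s, hsN⟩, hS (Subgroup.mem_subgroupOf.mpr hs), rfl⟩⟩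
    have hPN : P ≤ N := Subgroup.le_normalizer
    have hpP : IsPGroup 2 P := (hΩ.pgroup x).to_le hPx
    have hPS : ∀ S : Sylow 2 N, P ≤ (S : Subgroup N).map N.subtype := by
      intro S u hu
      have hnorm : (P.subgroupOf N).Normal := Subgroup.normal_in_normalizer
      have h8 : IsPGroup 2 (P.subgroupOf N) := hpP.comap_of_injective N.subtype N.subtype_injective
      have h9 : P.subgroupOf N ≤ (S : Subgroup N) := by
        obtain ⟨S', hS'⟩ := h8.exists_le_sylow
        obtain ⟨t, ht⟩ := MulAction.exists_smul_eq N S' S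
        rw [← ht]
        intro q hq
        have h10 : t⁻¹ * q * t ∈ P.subgroupOf N := by
          have := hnorm.conj_mem q hq t⁻¹
          simpa using this
        have h11 : q ∈ MulAut.conj t • (S' : Subgroup N) := by
          rw [Subgroup.mem_pointwise_smul_iff_inv_smul_mem]
          have := hS' h10
          simpa [MulAut.smul_def, mul_assoc] using this
        exact h11
      exact ⟨⟨u, hPN hu⟩, h9 (Subgroup.mem_subgroupOf.mpr hu), rfl⟩
    have hpS : ∀ S : Sylow 2 N, IsPGroup 2 ((S : Subgroup N).map N.subtype) := fun S => S.isPGroup'.map _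
    obtain ⟨S1, s1, hs1, hs1P, hs1S⟩ := key x hx hltx
    obtain ⟨S2, s2, hs2, hs2P, hs2S⟩ := key y hy hlty
    obtain ⟨g, hg⟩ := MulAction.exists_smul_eq N S1 S2
    obtain ⟨x1, hx1, hSx1⟩ := exists_point h0 hx (hpS S1)
    obtain ⟨y1, hy1, hSy1⟩ := exists_point h0 hx (hpS S2)
    have hSgx : (S2 : Subgroup N).map N.subtype ≤ stabilizer G ((g : G) • x1) := by
      rintro _ ⟨q, hq, rfl⟩
      have h12 : g⁻¹ * q * g ∈ (S1 : Subgroup N) := by
        have h13 : q ∈ MulAut.conj g • (S1 : Subgroup N) := by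
          have : (S2 : Subgroup N) = MulAut.conj g • (S1 : Subgroup N) := by rw [← hg]; rfl
          rw [← this]; exact hq
        rw [Subgroup.mem_pointwise_smul_iff_inv_smul_mem] at h13
        simpa [MulAut.smul_def, mul_assoc] using h13
      have h14 := hSx1 ⟨_, h12, rfl⟩
      rw [mem_stabilizer_iff] at h14 ⊢
      have h15 : ((g : G)⁻¹ * (q : G) * (g : G)) • x1 = x1 := by simpa using h14
      show (q : G) • (g : G) • x1 = (g : G) • x1
      calc (q : G) • (g : G) • x1 = (g : G) • ((g : G)⁻¹ * (q : G) * (g : G)) • x1 := by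
            rw [smul_smul, smul_smul]; congr 1; group
        _ = (g : G) • x1 := by rw [h15]
    have hgx1 : (g : G) • x1 ∈ Ω₀ := h0.smul_mem _ _ hx1
    have hlt_of : ∀ {a b : Ω}, P ≤ stabilizer G a → P ≤ stabilizer G b → (∃ s, s ∈ stabilizer G a ∧
        s ∈ stabilizer G b ∧ s ∉ P) → P < stabilizer G a ⊓ stabilizer G b := by
      intro a b ha hb ⟨s, hsa, hsb, hsP⟩
      refine lt_of_le_of_ne (le_inf ha hb) ?_
      intro h
      apply hsP
      rw [h]
      exact ⟨hsa, hsb⟩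
    have hPx1 : P ≤ stabilizer G x1 := (hPS S1).trans hSx1
    have hPy1 : P ≤ stabilizer G y1 := (hPS S2).trans hSy1
    have hPgx1 : P ≤ stabilizer G ((g : G) • x1) := (hPS S2).trans hSgx
    have e1 := hup x hx x1 hx1 (hlt_of hPx hPx1 ⟨s1, hs1, hSx1 hs1S, hs1P⟩)
    have e4 := hup y1 hy1 y hy (hlt_of hPy1 hPy ⟨s2, hSy1 hs2S, hs2, hs2P⟩)
    have e3 := hup ((g : G) • x1) hgx1 y1 hy1 (hlt_of hPgx1 hPy1 ⟨s2, hSgx hs2S, hSy1 hs2S, hs2P⟩)
    have e2 : c x1 ((g : G) • x1) - (v ((g : G) • x1) - v x1) = 0 := by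
      refine vanish_conj h0 hc h2 hfaith v hv hv2 hvV hP hx1 hPx1 ?_
      intro u
      have h16 := (Subgroup.mem_normalizer_iff.mp (N.inv_mem g.2)) u
      simpa using h16
    rw [coc' hc v hP hx hx1 hy hPx hPx1 hPy, e1, zero_add,
      coc' hc v hP hx1 hgx1 hy hPx1 hPgx1 hPy, e2, zero_add,
      coc' hc v hP hgx1 hy1 hy hPgx1 hPy1 hPy, e3, e4, add_zero]

end Main

end Cfsg.Agent.H88.Lim
end

-- part: H71/Lim/COne2
section
/-!
# Minimal best offenders for `p = 2`, for `Cfsg.Agent.H539.Lim.Tv` (S5242, piece C1; helper71)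
-/

set_option autoImplicit false

namespace Cfsg.Agent.H71.Lim

open Cfsg.Agent.H539.Lim

universe u w

variable {G : Type u} [Group G] {D : Type w} [AddCommGroup D] [DistribMulAction G D]

theorem tv_iff {a : G} {f : D →+ ZMod 2} {z : D} : Tv a f z ↔ Cfsg.Agent.H539.Lim.Tv a f z :=
  ⟨fun h => ⟨h.ne_one, h.sq, h.z_ne, h.two_z, h.f_ne, h.fz, h.act⟩,
    fun h => ⟨h.ne_one, h.sq, h.z_ne, h.two_z, h.f_ne, h.fz, h.act⟩⟩

/-- **Two different transvections with the same functional generate a good best offender.** -/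
theorem bo_same_axis_two [Finite G] [Finite D] {a b : G} {f : D →+ ZMod 2} {z t : D}
    (ha : Cfsg.Agent.H539.Lim.Tv a f z) (hb : Cfsg.Agent.H539.Lim.Tv b f t)
    (hab : a * b = b * a) (hne : a ≠ b) (hfaith : ∀ g ∈ Subgroup.closure {a, b}, (∀ d : D, g • d = d) → g = 1) :
    BO D (Subgroup.closure {a, b}) ∧ NGood 2 D (Subgroup.closure {a, b}) ∧ z ≠ t :=
  bo_same_axis (tv_iff.2 ha) (tv_iff.2 hb) hab hne hfaith

/-- **A transvection generates a best offender.** -/
theorem bo_of_tv [Finite G] [Finite D] {a : G} {f : D →+ ZMod 2} {z : D} (h : Cfsg.Agent.H539.Lim.Tv a f z) :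
    BO D (Subgroup.zpowers a) := (tv_iff.2 h).bo

theorem ax_of_tv {a : G} {f : D →+ ZMod 2} {z : D} (h : Cfsg.Agent.H539.Lim.Tv a f z) : Ax f a := (tv_iff.2 h).ax

/-- **Minimal nontrivial best offenders.** -/
theorem exists_good_or_tv_two [Finite G] [Finite D] (hD : IsPTors 2 D) {A : Subgroup G} (hA : IsPGroup 2 A)
    (hAB : BO D A) (h1 : A ≠ ⊥) :
    (∃ B : Subgroup G, B ≤ A ∧ B ≠ ⊥ ∧ BO D B ∧ NGood 2 D B) ∨
      ∃ a ∈ A, ∃ (f : D →+ ZMod 2) (z : D), Cfsg.Agent.H539.Lim.Tv a f z := by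
  rcases exists_good_or_tv hD hA hAB h1 with h | ⟨a, ha, f, z, h⟩
  · exact Or.inl h
  · exact Or.inr ⟨a, ha, f, z, tv_iff.1 h⟩

end Cfsg.Agent.H71.Lim
end

-- part: H539/Lim/ClaimT
section
/-!
# Claim T (helper539, for S5242): `H¹(Q0 ; D) = 0` for the subgroups containing a nontrivial best offender, `p = 2`
-/

set_option autoImplicit false

namespace Cfsg.Agent.H539.Lim

open MulAction

universe u v w

variable {G : Type u} [Group G] {Ω : Type v} [MulAction G Ω] {D : Type w} [AddCommGroup D]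
  [DistribMulAction G D]

theorem Orb2.exists_fix [Finite G] {Ω₀ : Finset Ω} (h0 : Orb2 G Ω₀) (P : Subgroup G) (hP : IsPGroup 2 P) :
    ∃ y ∈ Ω₀, P ≤ stabilizer G y := by
  obtain ⟨y, hy⟩ : Ω₀.Nonempty := by
    rw [← Finset.card_pos]
    obtain ⟨m, hm⟩ := h0.odd
    omega
  obtain ⟨S, hS⟩ := h0.sylow y hy
  obtain ⟨S', hS'⟩ := hP.exists_le_sylow
  obtain ⟨g, hg⟩ := MulAction.exists_smul_eq G S S'
  refine ⟨g • y, h0.smul_mem g y hy, ?_⟩
  intro u hu
  have h1 : u ∈ (S' : Subgroup G) := hS' hu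
  rw [← hg, Sylow.coe_subgroup_smul, hS] at h1
  rw [MulAction.stabilizer_smul_eq_stabilizer_map_conj]
  exact h1

theorem inf_smul (g : G) (x y : Ω) :
    stabilizer G (g • x) ⊓ stabilizer G (g • y) = cj g (stabilizer G x ⊓ stabilizer G y) := by
  rw [MulAction.stabilizer_smul_eq_stabilizer_map_conj, MulAction.stabilizer_smul_eq_stabilizer_map_conj, cj,
    Subgroup.map_inf _ _ _ (MulAut.conj g).injective]

theorem mem_iff_of_isInv {V : Set (Subgroup G)} (hV : IsInv V) (g : G) (P : Subgroup G) :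
    cj g P ∈ V ↔ P ∈ V := by
  refine ⟨fun h => ?_, fun h => hV g P h⟩
  have := hV g⁻¹ _ h
  have h2 := cj_cj_inv g⁻¹ P
  rw [inv_inv] at h2
  rwa [h2] at this

theorem inf_smul_mem {V : Set (Subgroup G)} (hV : IsInv V) (g : G) (x y : Ω) :
    stabilizer G (g • x) ⊓ stabilizer G (g • y) ∈ V ↔ stabilizer G x ⊓ stabilizer G y ∈ V := by
  rw [inf_smul, mem_iff_of_isInv hV]

theorem isPGroup_st {p : ℕ} (hΩ : PSet p G Ω) (x y : Ω) :
    IsPGroup p ↥(stabilizer G x ⊓ stabilizer G y) := (hΩ.pgroup x).to_le inf_le_left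

/-- a pair in `Q0` is in `Qs` or `Q1` -/
theorem Q0_sub [Finite G] [Finite D] (hD : IsPTors 2 D) {P : Subgroup G} (hP : IsPGroup 2 P)
    (h : P ∈ Q0 G D) : P ∈ Qs G D ∨ P ∈ Q1 G D := by
  obtain ⟨A, hA, h1, h2⟩ := h
  rcases Cfsg.Agent.H71.Lim.exists_good_or_tv_two hD (hP.to_le hA) h2 h1 with ⟨B, hB, hB1, hB2, hB3⟩ | ⟨a, ha, f, z, haz⟩
  · exact Or.inl ⟨B, hB.trans hA, hB1, hB2, hB3⟩
  · exact Or.inr ⟨a, hA ha, f, z, haz⟩

theorem Qs_sub_Q0 {P : Subgroup G} (h : P ∈ Qs G D) : P ∈ Q0 G D := by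
  obtain ⟨A, hA, h1, h2, -⟩ := h
  exact ⟨A, hA, h1, h2⟩

/-- the norm theorem on `Qs` -/
theorem solve_Qs [Finite G] [Finite Ω] [Finite D] (hΩ : PSet 2 G Ω) (hD : IsPTors 2 D) (c : Ω → Ω → D)
    (hc : ∀ (g : G) x y, c (g • x) (g • y) = g • c x y)
    (hcoc : ∀ x y z, stabilizer G x ⊓ stabilizer G y ⊓ stabilizer G z ∈ Qs G D → c x z = c x y + c y z) :
    ∃ v : Ω → D, (∀ (g : G) y, v (g • y) = g • v y) ∧
        ∀ x y, stabilizer G x ⊓ stabilizer G y ∈ Qs G D → c x y = v y - v x := by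
  haveI : Fact (Nat.Prime 2) := ⟨Nat.prime_two⟩
  set 𝒜 : Set (Subgroup G) := {A | IsPGroup 2 A ∧ A ≠ ⊥ ∧ BO D A ∧ NGood 2 D A} with h𝒜
  have hi : IsInv 𝒜 := by
    rintro g A ⟨h1, h2, h3, h4⟩
    exact ⟨h1.map _, cj_ne_bot h2 g, bo_conj h3 g, ngood_conj h4 g⟩
  have hV := Cfsg.Agent.H309.Lim.van_Q hΩ hD 𝒜 hi (fun A hA => hA.1) (fun A hA => hA.2.2.2) 0
  have hup : IsUpperSet {P : Subgroup G | ∃ A ∈ 𝒜, A ≤ P} := by
    rintro P Q hPQ ⟨A, hA, hAP⟩
    exact ⟨A, hA, hAP.trans hPQ⟩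
  have hinv : IsInv {P : Subgroup G | ∃ A ∈ 𝒜, A ≤ P} := by
    rintro g P ⟨A, hA, hAP⟩
    exact ⟨cj g A, hi g A hA, Subgroup.map_mono hAP⟩
  rw [zero_add, van_one_iff hup hinv] at hV
  obtain ⟨v, hv, hv'⟩ := hV c hc (fun x y z h => hcoc x y z (by
    obtain ⟨A, hA, hAP⟩ := h
    exact ⟨A, hAP, hA.2.1, hA.2.2.1, hA.2.2.2⟩))
  refine ⟨v, hv, fun x y h => hv' x y ?_⟩
  obtain ⟨A, hA, h1, h2, h3⟩ := h
  exact ⟨A, ⟨(isPGroup_st hΩ x y).to_le hA, h1, h2, h3⟩, hA⟩

theorem smul_mem_iff {Ω₀ : Finset Ω} (h0 : Orb2 G Ω₀) (g : G) (x : Ω) : g • x ∈ Ω₀ ↔ x ∈ Ω₀ := by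
  refine ⟨fun h => ?_, fun h => h0.smul_mem g x h⟩
  have := h0.smul_mem g⁻¹ _ h
  rwa [inv_smul_smul] at this

/-! ### the vertex function of case N -/

theorem Wt_smul (g : G) (x : Ω) : Wt G D (g • x) = cj g (Wt G D x) := by
  apply le_antisymm
  · rw [Wt, Subgroup.closure_le]
    rintro a ⟨ha, f, z, h⟩
    refine ⟨g⁻¹ * a * g, Subgroup.subset_closure ⟨?_, ?_⟩, by simp [MulAut.conj_apply, mul_assoc]⟩
    · rw [mem_stabilizer_iff] at ha ⊢
      calc (g⁻¹ * a * g) • x = g⁻¹ • a • g • x := by rw [smul_smul, smul_smul]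
        _ = x := by rw [ha, inv_smul_smul]
    · have := tv_conj h g⁻¹
      rw [inv_inv] at this
      exact ⟨_, _, this⟩
  · rw [cj, Wt, MonoidHom.map_closure, Subgroup.closure_le]
    rintro _ ⟨a, ⟨ha, f, z, h⟩, rfl⟩
    refine Subgroup.subset_closure ⟨?_, ?_⟩
    · rw [mem_stabilizer_iff] at ha ⊢
      calc ((MulAut.conj g).toMonoidHom a) • g • x = g • a • x := by
            rw [smul_smul, smul_smul]; congr 1; simp [MulAut.conj_apply, mul_assoc]
        _ = g • x := by rw [ha]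
    · exact ⟨_, _, tv_conj h g⟩

theorem vN_smul {Ω₀ : Finset Ω} (h0 : Orb2 G Ω₀) {c : Ω → Ω → D}
    (hc : ∀ (g : G) x y, c (g • x) (g • y) = g • c x y) (g : G) (x : Ω) :
    vN G Ω₀ c (g • x) = g • vN G Ω₀ c x := by
  classical
  rw [vN, vN, Finset.smul_sum]
  symm
  refine Finset.sum_bij (fun y _ => g • y) ?_ ?_ ?_ ?_
  · intro y hy
    rw [Finset.mem_filter] at hy ⊢
    refine ⟨h0.smul_mem g y hy.1, ?_⟩
    rw [Wt_smul, MulAction.stabilizer_smul_eq_stabilizer_map_conj, cj,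
      Subgroup.relIndex_map_map_of_injective _ _ (MulAut.conj g).injective]
    exact hy.2
  · intro y _ z _ h
    exact smul_left_cancel g h
  · intro y hy
    rw [Finset.mem_filter] at hy
    refine ⟨g⁻¹ • y, ?_, by simp⟩
    rw [Finset.mem_filter]
    refine ⟨h0.smul_mem _ y hy.1, ?_⟩
    have h1 := hy.2
    rw [show y = g • g⁻¹ • y by simp, Wt_smul, MulAction.stabilizer_smul_eq_stabilizer_map_conj, cj,
      Subgroup.relIndex_map_map_of_injective _ _ (MulAut.conj g).injective] at h1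
    exact h1
  · intro y _
    exact (hc g x y).symm

theorem two_vN {Ω₀ : Finset Ω} {c : Ω → Ω → D} (h2 : ∀ x ∈ Ω₀, ∀ y ∈ Ω₀, 2 • c x y = 0) {x : Ω}
    (hx : x ∈ Ω₀) : 2 • vN G Ω₀ c x = 0 := by
  classical
  rw [vN, Finset.smul_sum]
  apply Finset.sum_eq_zero
  intro y hy
  exact h2 x hx y (Finset.mem_filter.mp hy).1

/-! ### the main cases, `Ω₀` and `c` with `c = 0` on `Qs` -/

/-- the case of a faithful action, `2 c = 0`, `c = 0` on `Qs` -/
theorem solve_two [Finite G] [Finite Ω] [Finite D] (hΩ : PSet 2 G Ω) (hD : IsPTors 2 D) {Ω₀ : Finset Ω}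
    (h0 : Orb2 G Ω₀) {c : Ω → Ω → D} (hc : Coc2 G Ω₀ c) (h2 : ∀ x ∈ Ω₀, ∀ y ∈ Ω₀, 2 • c x y = 0)
    (hs : ∀ x ∈ Ω₀, ∀ y ∈ Ω₀, stabilizer G x ⊓ stabilizer G y ∈ Qs G D → c x y = 0)
    (hfaith : ∀ x ∈ Ω₀, ∀ g ∈ stabilizer G x, (∀ d : D, g • d = d) → g = 1) :
    ∃ v : Ω → D, (∀ (g : G), ∀ y ∈ Ω₀, v (g • y) = g • v y) ∧
      ∀ x ∈ Ω₀, ∀ y ∈ Ω₀, stabilizer G x ⊓ stabilizer G y ∈ Q0 G D → c x y = v y - v x := by
  classical
  by_cases hS : ∃ x ∈ Ω₀, ∃ b ∈ stabilizer G x, ∃ d ∈ stabilizer G x, ∃ (f : D →+ ZMod 2) (t t' : D),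
      Tv b f t ∧ Tv d f t' ∧ b ≠ d
  · obtain ⟨x, hx, b, hbx, d, hdx, f, t, t', hb, hd, hbd⟩ := hS
    have h1 := Cfsg.Agent.H88.Lim.vanish_Q1 hΩ h0 hc h2 hfaith (fun _ => 0) (fun g y _ => (smul_zero g).symm)
      (fun y _ => smul_zero _) (by
        intro x' hx' a ha g z haz
        simp only [add_zero]
        obtain ⟨k, rfl⟩ := h0.trans x hx x' hx'
        have hb' := tv_conj hb k
        have hd' := tv_conj hd k
        refine Cfsg.Agent.H729.Lim.caseS h0 hc h2 hs hfaith hx' hb' hd' ?_ ?_ ?_ haz ha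
        · intro h
          exact hbd (by simpa using h)
        · rw [mem_stabilizer_iff] at hbx
          calc (k * b * k⁻¹) • k • x = k • b • x := by rw [smul_smul, smul_smul]; congr 1; group
            _ = k • x := by rw [hbx]
        · rw [mem_stabilizer_iff] at hdx
          calc (k * d * k⁻¹) • k • x = k • d • x := by rw [smul_smul, smul_smul]; congr 1; group
            _ = k • x := by rw [hdx])
    refine ⟨fun _ => 0, fun g y _ => (smul_zero g).symm, fun x hx y hy hxy => ?_⟩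
    rcases Q0_sub hD (isPGroup_st hΩ x y) hxy with h | h
    · rw [hs x hx y hy h, sub_zero]
    · exact h1 x hx y hy h
  · push Not at hS
    have hN : ∀ x ∈ Ω₀, _ := fun x hx => Cfsg.Agent.H521.Lim.caseN h0 hc h2 hfaith hx
      (fun a ha b hb f z t haz hbt => hS x hx a ha b hb f z t haz hbt)
    have h1 := Cfsg.Agent.H88.Lim.vanish_Q1 hΩ h0 hc h2 hfaith (vN G Ω₀ c) (fun g y _ => vN_smul h0 hc.equiv g y)
      (fun y hy => two_vN h2 hy) (fun x hx a ha f z haz => (hN x hx).1 a ha f z haz)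
    refine ⟨vN G Ω₀ c, fun g y _ => vN_smul h0 hc.equiv g y, fun x hx y hy hxy => ?_⟩
    rcases Q0_sub hD (isPGroup_st hΩ x y) hxy with h | h
    · rw [hs x hx y hy h, (hN x hx).2 hs (isUpper_Qs inf_le_left h), (hN y hy).2 hs (isUpper_Qs inf_le_right h),
        sub_zero]
    · exact h1 x hx y hy h

/-- the case `c = 0` on `Qs` -/
theorem solve_Q0 [Finite G] [Finite Ω] [Finite D] (hΩ : PSet 2 G Ω) (hD : IsPTors 2 D) {Ω₀ : Finset Ω}
    (h0 : Orb2 G Ω₀) {c : Ω → Ω → D} (hc : Coc2 G Ω₀ c)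
    (hfull : ∀ x y z, stabilizer G x ⊓ stabilizer G y ⊓ stabilizer G z ∈ Q0 G D → c x z = c x y + c y z)
    (hs : ∀ x ∈ Ω₀, ∀ y ∈ Ω₀, stabilizer G x ⊓ stabilizer G y ∈ Qs G D → c x y = 0) :
    ∃ v : Ω → D, (∀ (g : G), ∀ y ∈ Ω₀, v (g • y) = g • v y) ∧
      ∀ x ∈ Ω₀, ∀ y ∈ Ω₀, stabilizer G x ⊓ stabilizer G y ∈ Q0 G D → c x y = v y - v x := by
  classical
  by_cases hk : ∃ x ∈ Ω₀, ∃ g ∈ stabilizer G x, g ≠ 1 ∧ ∀ d : D, g • d = d
  · have h1 := Cfsg.Agent.H405.Lim.evenKernel hD h0 hc hs hk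
    refine ⟨fun _ => 0, fun g y _ => (smul_zero g).symm, fun x hx y hy hxy => ?_⟩
    rcases Q0_sub hD (isPGroup_st hΩ x y) hxy with h | h
    · rw [hs x hx y hy h, sub_zero]
    · rw [h1 x hx y hy h, sub_zero]
  have hfaith : ∀ x ∈ Ω₀, ∀ g ∈ stabilizer G x, (∀ d : D, g • d = d) → g = 1 := by
    intro x hx g hg hgd
    by_contra h1
    exact hk ⟨x, hx, g, hg, h1, hgd⟩
  by_cases hTv : ∃ x ∈ Ω₀, stabilizer G x ∈ Q1 G D
  · obtain ⟨w, hw, hw2, hws⟩ := Cfsg.Agent.H16.Lim.reduceTwo hΩ hD h0 hc hfull hfaith hTv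
    -- the truncated reduced cocycle
    set c2 : Ω → Ω → D := fun x y =>
      if x ∈ Ω₀ ∧ y ∈ Ω₀ ∧ stabilizer G x ⊓ stabilizer G y ∈ Q0 G D then c x y - (w y - w x) else 0 with hc2
    have e2 : ∀ x ∈ Ω₀, ∀ y ∈ Ω₀, stabilizer G x ⊓ stabilizer G y ∈ Q0 G D →
        c2 x y = c x y - (w y - w x) := fun x hx y hy h => if_pos ⟨hx, hy, h⟩
    have hcc : Coc2 G Ω₀ c2 := by
      refine ⟨?_, ?_, ?_⟩
      · intro g x y
        simp only [hc2]
        by_cases h : x ∈ Ω₀ ∧ y ∈ Ω₀ ∧ stabilizer G x ⊓ stabilizer G y ∈ Q0 G D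
        · rw [if_pos h, if_pos ⟨h0.smul_mem g x h.1, h0.smul_mem g y h.2.1,
            (inf_smul_mem isInv_Q0 g x y).mpr h.2.2⟩, hc.equiv, hw g x h.1, hw g y h.2.1, smul_sub, smul_sub]
        · rw [if_neg h, if_neg, smul_zero]
          rintro ⟨h1, h2, h3⟩
          exact h ⟨(smul_mem_iff h0 g x).mp h1, (smul_mem_iff h0 g y).mp h2, (inf_smul_mem isInv_Q0 g x y).mp h3⟩
      · intro x y h
        simp only [hc2]
        rw [if_neg]
        rintro ⟨-, -, h3⟩
        exact h h3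
      · intro x hx y hy z hz h
        rw [e2 x hx z hz (isUpper_Q0 (by
            exact le_inf (inf_le_left.trans inf_le_left) inf_le_right) h),
          e2 x hx y hy (isUpper_Q0 inf_le_left h),
          e2 y hy z hz (isUpper_Q0 (le_inf (inf_le_left.trans inf_le_right) inf_le_right) h),
          hc.coc x hx y hy z hz h]
        abel
    have h22 : ∀ x ∈ Ω₀, ∀ y ∈ Ω₀, 2 • c2 x y = 0 := by
      intro x hx y hy
      by_cases h : stabilizer G x ⊓ stabilizer G y ∈ Q0 G D
      · rw [e2 x hx y hy h]; exact hw2 x hx y hy h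
      · rw [hcc.supp x y h, smul_zero]
    have h2s : ∀ x ∈ Ω₀, ∀ y ∈ Ω₀, stabilizer G x ⊓ stabilizer G y ∈ Qs G D → c2 x y = 0 := by
      intro x hx y hy h
      rw [e2 x hx y hy (Qs_sub_Q0 h), hws x hx y hy h, sub_self]
    obtain ⟨v, hv, hv'⟩ := solve_two hΩ hD h0 hcc h22 h2s hfaith
    refine ⟨fun x => w x + v x, fun g y hy => by beta_reduce; rw [hw g y hy, hv g y hy, smul_add],
      fun x hx y hy h => ?_⟩
    have h1 := hv' x hx y hy h
    rw [e2 x hx y hy h] at h1
    have h3 : c x y = (w y - w x) + (v y - v x) := by rw [← h1]; abel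
    beta_reduce
    rw [h3]; abel
  · refine ⟨fun _ => 0, fun g y _ => (smul_zero g).symm, fun x hx y hy hxy => ?_⟩
    rcases Q0_sub hD (isPGroup_st hΩ x y) hxy with h | h
    · rw [hs x hx y hy h, sub_zero]
    · exact absurd ⟨x, hx, isUpper_Q1 inf_le_left h⟩ hTv

/-- **Claim T** -/
theorem claimT [Finite G] [Finite Ω] [Finite D] (hΩ : PSet 2 G Ω) (hD : IsPTors 2 D) :
    Van G Ω D {P | ∃ A : Subgroup G, A ≤ P ∧ A ≠ ⊥ ∧ BO D A} 1 := by
  classical
  haveI : Fact (Nat.Prime 2) := ⟨Nat.prime_two⟩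
  change Van G Ω D (Q0 G D) 1
  rw [van_one_iff isUpper_Q0 isInv_Q0]
  intro c hc hcoc
  obtain ⟨Ω₀, o1, o2, o3, o4, o5⟩ := Cfsg.Agent.H481.Lim.exists_orbit (p := 2) hΩ
  have h0 : Orb2 G Ω₀ := ⟨o1, o2, o3, by
    rw [← Nat.not_even_iff_odd]
    intro h
    exact o4 h.two_dvd⟩
  obtain ⟨u, hu, hu'⟩ := solve_Qs hΩ hD c hc (fun x y z h => hcoc x y z (Qs_sub_Q0 h))
  set c1 : Ω → Ω → D := fun x y =>
    if stabilizer G x ⊓ stabilizer G y ∈ Q0 G D then c x y - (u y - u x) else 0 with hc1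
  have e1 : ∀ x y, stabilizer G x ⊓ stabilizer G y ∈ Q0 G D → c1 x y = c x y - (u y - u x) :=
    fun x y h => if_pos h
  have hequiv : ∀ (g : G) x y, c1 (g • x) (g • y) = g • c1 x y := by
    intro g x y
    simp only [hc1]
    by_cases h : stabilizer G x ⊓ stabilizer G y ∈ Q0 G D
    · rw [if_pos h, if_pos ((inf_smul_mem isInv_Q0 g x y).mpr h), hc, hu, hu, smul_sub, smul_sub]
    · rw [if_neg h, if_neg (fun h' => h ((inf_smul_mem isInv_Q0 g x y).mp h')), smul_zero]
  have hfull : ∀ x y z, stabilizer G x ⊓ stabilizer G y ⊓ stabilizer G z ∈ Q0 G D →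
      c1 x z = c1 x y + c1 y z := by
    intro x y z h
    rw [e1 x z (isUpper_Q0 (le_inf (inf_le_left.trans inf_le_left) inf_le_right) h),
      e1 x y (isUpper_Q0 inf_le_left h),
      e1 y z (isUpper_Q0 (le_inf (inf_le_left.trans inf_le_right) inf_le_right) h), hcoc x y z h]
    abel
  have hcc : Coc2 G Ω₀ c1 := ⟨hequiv, fun x y h => if_neg h, fun x _ y _ z _ h => hfull x y z h⟩
  obtain ⟨v, hv, hv'⟩ := solve_Q0 hΩ hD h0 hcc hfull (fun x _ y _ h => by
    rw [e1 x y (Qs_sub_Q0 h), hu' x y h, sub_self])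
  refine van_one_of_orbit (p := 2) hΩ isUpper_Q0 isInv_Q0 Ω₀ o1 h0.exists_fix c hc hcoc
    (fun x => u x + v x) (fun g y hy => by beta_reduce; rw [hu g y, hv g y hy, smul_add])
    (fun x hx y hy h => ?_)
  have h1 := hv' x hx y hy h
  rw [e1 x y h] at h1
  have h3 : c x y = (u y - u x) + (v y - v x) := by rw [← h1]; abel
  beta_reduce
  rw [h3]; abel

end Cfsg.Agent.H539.Lim
end
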